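import Mathlib

/-!
# The matrices of an irreducible group with scalar commutant span the matrix algebra
-/

set_option autoImplicit false

namespace Cfsg.Agent.Lie.OddSmall

universe u v

variable {D : Type u} [Group D] {K : Type v} [Field K] {n : ℕ}

/-- Burnside's theorem for a group transitive on the non-zero vectors. -/
theorem span_eq_top (σ : D →* Matrix (Fin n) (Fin n) K)
    (htrans : ∀ a b : Fin n → K, a ≠ 0 → b ≠ 0 → ∃ g : D, (σ g).mulVec a = b)
    (hcomm : ∀ f : (Fin n → K) →ₗ[K] (Fin n → K),
      (∀ (g : D) (a : Fin n → K), f ((σ g).mulVec a) = (σ g).mulVec (f a)) → ∃ c : K, ∀ a, f a = c • a) :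
    Submodule.span K (Set.range σ) = ⊤ := by
  classical
  set A := Submodule.span K (Set.range σ) with hA
  have hone : (1 : Matrix (Fin n) (Fin n) K) ∈ A := Submodule.subset_span ⟨1, map_one σ⟩
  have hmul : ∀ g : D, ∀ a ∈ A, σ g * a ∈ A := by
    intro g a ha
    induction ha using Submodule.span_induction with
    | mem x hx =>
      obtain ⟨k, rfl⟩ := hx
      exact Submodule.subset_span ⟨g * k, map_mul σ g k⟩
    | zero => simp
    | add x y _ _ hx hy => rw [mul_add]; exact add_mem hx hy
    | smul c x _ hx => rw [mul_smul_comm]; exact Submodule.smul_mem _ _ hx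
  have key : ∀ (k : ℕ) (v : Fin k → Fin n → K), LinearIndependent K v →
      ∀ t : Fin k → Fin n → K, ∃ a ∈ A, ∀ i, a.mulVec (v i) = t i := by
    intro k
    induction k with
    | zero => exact fun v _ t => ⟨0, zero_mem _, fun i => i.elim0⟩
    | succ k ih =>
      intro v hv t
      set w := v (Fin.last k) with hw
      set v' : Fin k → Fin n → K := fun i => v i.castSucc with hv'
      have hli : LinearIndependent K v' := hv.comp _ (Fin.castSucc_injective k)
      let Iw : Submodule K (Fin n → K) :=
        { carrier := {x | ∃ a ∈ A, (∀ i, a.mulVec (v' i) = 0) ∧ a.mulVec w = x}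
          add_mem' := by
            rintro x y ⟨a, ha, ha0, rfl⟩ ⟨b, hb, hb0, rfl⟩
            exact ⟨a + b, add_mem ha hb, fun i => by rw [Matrix.add_mulVec, ha0, hb0, add_zero],
              Matrix.add_mulVec a b w⟩
          zero_mem' := ⟨0, zero_mem _, fun i => Matrix.zero_mulVec _, Matrix.zero_mulVec _⟩
          smul_mem' := by
            rintro c x ⟨a, ha, ha0, rfl⟩
            exact ⟨c • a, Submodule.smul_mem _ _ ha, fun i => by rw [Matrix.smul_mulVec, ha0, smul_zero],
              Matrix.smul_mulVec c a w⟩ }
      by_cases hI : ∃ x ∈ Iw, x ≠ 0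
      · obtain ⟨_, ⟨a, ha, ha0, rfl⟩, hx0⟩ := hI
        have hall : ∀ y, y ∈ Iw := by
          intro y
          by_cases hy : y = 0
          · rw [hy]; exact zero_mem _
          obtain ⟨g, hg⟩ := htrans _ y hx0 hy
          exact ⟨σ g * a, hmul g a ha, fun i => by rw [← Matrix.mulVec_mulVec, ha0, Matrix.mulVec_zero],
            by rw [← Matrix.mulVec_mulVec, hg]⟩
        obtain ⟨b, hb, hbv⟩ := ih v' hli fun i => t i.castSucc
        obtain ⟨c, hc, hc0, hcw⟩ := hall (t (Fin.last k) - b.mulVec w)
        refine ⟨b + c, add_mem hb hc, fun i => ?_⟩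
        induction i using Fin.lastCases with
        | last => rw [Matrix.add_mulVec, hcw, ← hw]; abel
        | cast i => rw [Matrix.add_mulVec, show v i.castSucc = v' i from rfl, hc0, hbv, add_zero]
      · exfalso
        push Not at hI
        choose a ha hav using fun (p : Fin k) (x : Fin n → K) => ih v' hli (Pi.single p x)
        -- killing the first vectors kills the last one
        have hwell : ∀ b c : Matrix (Fin n) (Fin n) K, b ∈ A → c ∈ A →
            (∀ i, b.mulVec (v' i) = c.mulVec (v' i)) → b.mulVec w = c.mulVec w := by
          intro b c hb hc h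
          have := hI _ ⟨b - c, sub_mem hb hc, fun i => by rw [Matrix.sub_mulVec, h, sub_self], rfl⟩
          rwa [Matrix.sub_mulVec, sub_eq_zero] at this
        have hf : ∀ p : Fin k, ∃ c : K, ∀ x, (a p x).mulVec w = c • x := by
          intro p
          let f : (Fin n → K) →ₗ[K] (Fin n → K) :=
            { toFun := fun x => (a p x).mulVec w
              map_add' := fun x y => by
                rw [← Matrix.add_mulVec]
                exact hwell _ _ (ha p _) (add_mem (ha p x) (ha p y)) fun i => by
                  rw [Matrix.add_mulVec, hav, hav, hav, Pi.single_add, Pi.add_apply]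
              map_smul' := fun c x => by
                rw [RingHom.id_apply, ← Matrix.smul_mulVec]
                exact hwell _ _ (ha p _) (Submodule.smul_mem _ _ (ha p x)) fun i => by
                  rw [Matrix.smul_mulVec, hav, hav, Pi.single_smul, Pi.smul_apply] }
          obtain ⟨c, hc⟩ := hcomm f fun g x => by
            show (a p _).mulVec w = (σ g).mulVec ((a p x).mulVec w)
            rw [Matrix.mulVec_mulVec]
            refine hwell _ _ (ha p _) (hmul g _ (ha p x)) fun i => ?_
            rw [hav, ← Matrix.mulVec_mulVec, hav]
            by_cases hi : i = p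
            · subst hi; simp
            · simp [hi]
          exact ⟨c, hc⟩
        choose c hc using hf
        have hexp : w = ∑ p, c p • v' p := by
          calc w = (1 : Matrix (Fin n) (Fin n) K).mulVec w := (Matrix.one_mulVec w).symm
            _ = (∑ p, a p (v' p)).mulVec w := by
              refine hwell _ _ hone (Submodule.sum_mem _ fun p _ => ha p _) fun i => ?_
              rw [Matrix.one_mulVec, Matrix.sum_mulVec]
              simp [hav, Finset.sum_pi_single]
            _ = ∑ p, c p • v' p := by
              rw [Matrix.sum_mulVec]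
              exact Finset.sum_congr rfl fun p _ => hc p _
        refine hv.notMem_span_image (s := Set.range Fin.castSucc) (x := Fin.last k) ?_ ?_
        · rintro ⟨i, hi⟩
          exact Fin.castSucc_ne_last i hi
        · rw [show v (Fin.last k) = w from rfl, hexp]
          exact Submodule.sum_mem _ fun p _ => Submodule.smul_mem _ _
            (Submodule.subset_span ⟨p.castSucc, ⟨p, rfl⟩, rfl⟩)
  rw [eq_top_iff]
  intro B _
  obtain ⟨a, ha, hab⟩ := key n _ (Pi.basisFun K (Fin n)).linearIndependent fun i => B.mulVec (Pi.single i 1)
  have : a = B := by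
    refine Matrix.toLin'.injective ((Pi.basisFun K (Fin n)).ext fun i => ?_)
    simp only [Matrix.toLin'_apply]
    rw [hab i, Pi.basisFun_apply]
  exact this ▸ ha

end Cfsg.Agent.Lie.OddSmall
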