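import Cfsg.Agent.Lib.Char.TwoCharBlock
import Cfsg.Agent.Lib.Char.BlockRankCard
import Cfsg.Agent.Lib.Char.IdemLift
import Cfsg.Agent.Lib.Char.Central
import Mathlib

/-!
# Complex characters of small degree from a matrix representation in characteristic two of a group of odd order

The reduced idempotents of the irreducible characters decompose the group algebra over the residue field into
blocks of dimension `χ(1) ^ 2` without proper two-sided ideals.  So the characters whose idempotents act
non-trivially on an `n`-dimensional module have degree at most `n`, they separate the group, and if the matrices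
span the whole matrix algebra then `n` is one of these degrees, hence odd.
-/

set_option autoImplicit false
set_option linter.unusedSectionVars false
set_option linter.style.haveILetI false

open Cfsg Module Polynomial
open scoped ComplexConjugate

namespace Cfsg.Agent.Lie.OddSmall

open Cfsg.Agent Cfsg.Agent.Char Cfsg.Agent.Char.IdemLift

universe u v

variable {D : Type u} [Group D] [Fintype D] {M : Ideal AlgInt}

theorem isAlgClosed_res (hP : M.IsPrime) : IsAlgClosed (Res hP) := by
  refine IsAlgClosed.of_exists_root _ fun f hf hirr => ?_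
  obtain ⟨g, hg, hdeg, hgm⟩ := Polynomial.lifts_and_natDegree_eq_and_monic (f := Ideal.Quotient.mk (resIdeal hP))
    ((Polynomial.mem_lifts _).mpr
      (Polynomial.map_surjective _ Ideal.Quotient.mk_surjective f)) hf
  obtain ⟨s, hs⟩ := exists_roots hP hgm
  have hne : s ≠ 0 := by
    rintro rfl
    have h0 := hirr.natDegree_pos
    rw [← hdeg, hs] at h0
    simp at h0
  obtain ⟨a, ha⟩ := Multiset.exists_mem_of_ne_zero hne
  have he : g.eval a = 0 := by
    rw [hs, Polynomial.eval_multiset_prod]
    exact Multiset.prod_eq_zero (Multiset.mem_map.mpr ⟨X - C a, Multiset.mem_map.mpr ⟨a, ha, rfl⟩, by simp⟩)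
  refine ⟨Ideal.Quotient.mk (resIdeal hP) a, ?_⟩
  rw [← hg, Polynomial.eval_map, Polynomial.eval₂_hom, he, map_zero]

section Block

variable (hM : IsPModular 2 M) (hodd : Odd (Nat.card D))
include hM hodd

/-- In a group of odd order the blocks for the prime two are single characters. -/
theorem block_single (χ : IrrCharacter D) : blockOf M (χ : D → ℂ) = {χ} := by
  have hB := isPBlock_blockOf M χ
  have hd : blockDefect 2 (blockOf M (χ : D → ℂ)) = 0 := by
    rw [blockDefect, Nat.factorization_eq_zero_of_not_dvd fun h => (Nat.not_even_iff_odd.mpr hodd)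
      (even_iff_two_dvd.mpr h), Nat.zero_sub]
  have h1 := ((defect_zero_iff_rank hM hB).1.mp hd).1
  obtain ⟨h2, -⟩ := Nat.card_eq_one_iff_unique.mp h1
  refine Set.eq_singleton_iff_unique_mem.mpr ⟨self_mem_blockOf (pmod_prime hM) χ, fun η hη => ?_⟩
  exact congrArg Subtype.val (h2.elim ⟨η, hη⟩ ⟨χ, self_mem_blockOf (pmod_prime hM) χ⟩)

theorem blockCoeff_single (χ : IrrCharacter D) : blockCoeff (blockOf M (χ : D → ℂ)) = idem (χ : D → ℂ) := by
  classical
  rw [block_single hM hodd χ, blockCoeff_eq]
  simp [Finset.filter_eq']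

theorem memLR_idem (χ : IrrCharacter D) (x : D) : MemLocalRing M (idem (χ : D → ℂ) x) := by
  rw [← blockCoeff_single hM hodd χ]
  exact memLR_blockCoeff hM (isPBlock_blockOf M χ) x

/-- The reduced idempotent of a character. -/
noncomputable def E (χ : IrrCharacter D) : MonoidAlgebra (Res (pmod_prime hM)) D :=
  rdAlg (pmod_prime hM) (idem (χ : D → ℂ))

theorem sum_E : ∑ χ : IrrCharacter D, E hM χ = 1 := by
  have h := classFun_eq_sum_idem (G := D) isClassFunction_delta
  simp only [lam_delta (Subtype.prop _), one_smul] at h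
  rw [← rdAlg_delta (G := D) (pmod_prime hM), h, rdAlg_sum _ _ _ fun χ _ x => memLR_idem hM hodd χ x]
  rfl

theorem E_sq (χ : IrrCharacter D) : E hM χ * E hM χ = E hM χ := by
  rw [E, ← rdAlg_conv _ (memLR_idem hM hodd χ) (memLR_idem hM hodd χ), ← blockCoeff_single hM hodd χ,
    conv_blockCoeff]

theorem E_mul_ne {χ η : IrrCharacter D} (h : χ ≠ η) : E hM χ * E hM η = 0 := by
  rw [E, E, ← rdAlg_conv _ (memLR_idem hM hodd χ) (memLR_idem hM hodd η), ← blockCoeff_single hM hodd χ,
    ← blockCoeff_single hM hodd η, conv_blockCoeff_ne (pmod_prime hM) (isPBlock_blockOf M χ) (isPBlock_blockOf M η)]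
  · simp [rdAlg, red_zero]
  · rw [block_single hM hodd χ, block_single hM hodd η]
    exact fun e => h (Set.singleton_injective e)

theorem E_comm (χ : IrrCharacter D) (r : MonoidAlgebra (Res (pmod_prime hM)) D) :
    E hM χ * r = r * E hM χ :=
  rdAlg_central _ (isClassFunction_idem (irr_isCharacter χ.2)) r

theorem finrank_E (χ : IrrCharacter D) :
    finrank (Res (pmod_prime hM))
      (LinearMap.range (LinearMap.mulLeft (Res (pmod_prime hM)) (E hM χ))) =
      deg (χ : D → ℂ) * deg (χ : D → ℂ) := by
  classical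
  have h := finrank_block_algebra (pmod_prime hM) hM (isPBlock_blockOf M χ)
  rw [blockCoeff_single hM hodd χ, block_single hM hodd χ, Finset.sum_eq_single χ (by simp) (by simp),
    char_one_eq_deg (irr_isCharacter χ.2)] at h
  exact_mod_cast h

/-- A central idempotent below `E χ` is zero or `E χ`. -/
theorem central_idem (χ : IrrCharacter D) {i : MonoidAlgebra (Res (pmod_prime hM)) D}
    (hc : ∀ r, i * r = r * i) (hi : i * i = i) (hiE : i * E hM χ = i) : i = 0 ∨ i = E hM χ := by
  classical
  have hsurj : ∀ c : Res (pmod_prime hM), ∃ z : ℂ, MemLocalRing M z ∧ red (pmod_prime hM) z = c := by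
    intro c
    obtain ⟨w, rfl⟩ := Ideal.Quotient.mk_surjective c
    exact ⟨w, w.2, red_of_memLR (pmod_prime hM) w.2⟩
  choose s hs1 hs2 using hsurj
  set f : D → ℂ := fun x => s (i.coeff x) with hf
  have hfi : rdAlg (pmod_prime hM) f = i := by
    refine MonoidAlgebra.coeff_injective (Finsupp.ext fun x => ?_)
    rw [coeff_rdAlg, hf, hs2]
  have hfc : IsClassFunction D f := by
    intro g k
    show s (i.coeff (k * g * k⁻¹)) = s (i.coeff g)
    congr 1
    have h := congrArg (fun r : MonoidAlgebra (Res (pmod_prime hM)) D => r.coeff (k * g)) (hc (MonoidAlgebra.single k 1))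
    simpa [mul_assoc] using h
  set c := lam (χ : D → ℂ) f with hcdef
  have hconv : conv f (idem (χ : D → ℂ)) = c • idem (χ : D → ℂ) := by
    have hi' := isClassFunction_idem (irr_isCharacter χ.2)
    rw [classFun_eq_sum_idem (isClassFunction_conv hfc hi'), Finset.sum_eq_single χ]
    · rw [lam_conv χ.2 hfc hi', lam_idem, if_pos rfl, mul_one]
    · intro η _ hη
      rw [lam_conv η.2 hfc hi', lam_idem, if_neg hη, mul_zero, zero_smul]
    · simp
  have hcR : MemLocalRing M c := memLR_lam (pmod_prime hM) χ.2 hfc fun x => hs1 _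
  have hie : i = red (pmod_prime hM) c • E hM χ := by
    rw [← hiE, ← hfi, E, ← rdAlg_conv _ (fun x => hs1 _) (memLR_idem hM hodd χ), hconv]
    refine MonoidAlgebra.coeff_injective (Finsupp.ext fun x => ?_)
    rw [coeff_rdAlg, Pi.smul_apply, smul_eq_mul, red_mul (pmod_prime hM) hcR (memLR_idem hM hodd χ x)]
    simp [coeff_rdAlg]
  by_cases hE : E hM χ = 0
  · exact Or.inl (by rw [← hiE, hE, mul_zero])
  rw [hie, smul_mul_smul_comm, E_sq hM hodd χ] at hi
  have h := smul_left_injective (Res (pmod_prime hM)) hE hi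
  by_cases h0 : red (pmod_prime hM) c = 0
  · exact Or.inl (by rw [hie, h0, zero_smul])
  · exact Or.inr (by rw [hie, mul_left_cancel₀ h0 (h.trans (mul_one _).symm), one_smul])

/-- An algebra map which does not kill `E χ` is injective on its block. -/
theorem eq_zero_of_mem_block {A : Type*} [Ring A] [Algebra (Res (pmod_prime hM)) A]
    (ψ : MonoidAlgebra (Res (pmod_prime hM)) D →ₐ[Res (pmod_prime hM)] A) (χ : IrrCharacter D)
    (hne : ψ (E hM χ) ≠ 0) {x : MonoidAlgebra (Res (pmod_prime hM)) D}
    (hx : E hM χ * x = x) (hψ : ψ x = 0) : x = 0 := by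
  haveI := charP_res (pmod_prime hM) hM
  haveI : NeZero ((Nat.card D : ℕ) : Res (pmod_prime hM)) := ⟨fun h => by
    rw [CharP.cast_eq_zero_iff (Res (pmod_prime hM)) 2] at h
    exact (Nat.not_even_iff_odd.mpr hodd) (even_iff_two_dvd.mpr h)⟩
  haveI : IsSemisimpleRing (MonoidAlgebra (Res (pmod_prime hM)) D) := inferInstance
  let J : Submodule (MonoidAlgebra (Res (pmod_prime hM)) D) (MonoidAlgebra (Res (pmod_prime hM)) D) :=
    { carrier := {y | E hM χ * y = y ∧ ψ y = 0}
      add_mem' := fun ha hb => ⟨by rw [mul_add, ha.1, hb.1], by rw [map_add, ha.2, hb.2, add_zero]⟩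
      zero_mem' := ⟨mul_zero _, map_zero _⟩
      smul_mem' := fun r y hy => ⟨by
        rw [smul_eq_mul, ← mul_assoc, E_comm hM hodd χ r, mul_assoc, hy.1], by
        rw [smul_eq_mul, map_mul, hy.2, mul_zero]⟩ }
  have hJr : ∀ y ∈ J, ∀ r : (MonoidAlgebra (Res (pmod_prime hM)) D), y * r ∈ J := fun y hy r =>
    ⟨by rw [← mul_assoc, hy.1], by rw [map_mul, hy.2, zero_mul]⟩
  have hJl : ∀ y ∈ J, ∀ r : (MonoidAlgebra (Res (pmod_prime hM)) D), r * y ∈ J := fun y hy r => J.smul_mem r hy
  obtain ⟨J', hJ'⟩ := exists_isCompl J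
  have hcap : ∀ y, y ∈ J → y ∈ J' → y = 0 := fun y h1 h2 =>
    (Submodule.disjoint_def.mp hJ'.disjoint) y h1 h2
  obtain ⟨i, hiJ, j, hjJ, hij⟩ : ∃ i ∈ J, ∃ j ∈ J', i + j = (1 : (MonoidAlgebra (Res (pmod_prime hM)) D)) :=
    Submodule.mem_sup.mp (hJ'.sup_eq_top ▸ Submodule.mem_top)
  have haj : ∀ a ∈ J, a * j = 0 := fun a ha => hcap _ (hJr a ha j) (J'.smul_mem a hjJ)
  have hai : ∀ a ∈ J, a * i = a := fun a ha => by
    have h := haj a ha
    rw [show j = 1 - i by rw [← hij]; abel, mul_sub, mul_one, sub_eq_zero] at h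
    exact h.symm
  have hia : ∀ a ∈ J, i * a = a := by
    intro a ha
    set z := a - i * a with hz
    have hzJ : z ∈ J := J.sub_mem ha (hJl a ha i)
    have hzj : z = j * a := by rw [hz, show j = 1 - i by rw [← hij]; abel, sub_mul, one_mul]
    have hsq : ∀ r : (MonoidAlgebra (Res (pmod_prime hM)) D), z * r * z = 0 := fun r => by
      rw [show z * r * z = j * (a * r * j) * a by simp only [hzj, mul_assoc], haj _ (hJr a ha r), mul_zero,
        zero_mul]
    obtain ⟨L', hL'⟩ := exists_isCompl (Submodule.span (MonoidAlgebra (Res (pmod_prime hM)) D) {z})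
    obtain ⟨l, hl, l', hl', hll⟩ : ∃ l ∈ Submodule.span (MonoidAlgebra (Res (pmod_prime hM)) D) {z}, ∃ l' ∈ L', l + l' = (1 : (MonoidAlgebra (Res (pmod_prime hM)) D)) :=
      Submodule.mem_sup.mp (hL'.sup_eq_top ▸ Submodule.mem_top)
    obtain ⟨r, rfl⟩ := Submodule.mem_span_singleton.mp hl
    have h1 : z * l' = z := by
      have h : z * (r • z + l') = z := by rw [hll, mul_one]
      rwa [mul_add, smul_eq_mul, ← mul_assoc, hsq r, zero_add] at h
    have h2 : z = 0 := (Submodule.disjoint_def.mp hL'.disjoint) z (Submodule.mem_span_singleton_self z)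
      (by rw [← h1]; exact L'.smul_mem z hl')
    exact (sub_eq_zero.mp h2).symm
  have hc : ∀ r : (MonoidAlgebra (Res (pmod_prime hM)) D), i * r = r * i := fun r => by
    rw [← hai _ (hJr i hiJ r), mul_assoc, hia _ (hJl i hiJ r)]
  have hiE : i * E hM χ = i := by rw [← E_comm hM hodd χ, hiJ.1]
  rcases central_idem hM hodd χ hc (hai i hiJ) hiE with h | h
  · rw [← hai x ⟨hx, hψ⟩, h, mul_zero]
  · exact absurd (h ▸ hiJ.2) hne

end Block

/-- The characters of degree at most `n` separate a group with a faithful `n`-dimensional representation in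
characteristic two, and `n` is odd if the matrices span the matrix algebra. -/
theorem small_characters {K : Type v} [Field K] [Finite K] [CharP K 2] (hodd : Odd (Nat.card D)) {n : ℕ}
    (σ : D →* Matrix (Fin n) (Fin n) K) (hσ : Function.Injective σ) :
    (∀ g : D, g ≠ 1 → ∃ m ≤ n, ∃ ρ : Representation ℂ D (Fin m → ℂ), ρ g ≠ 1) ∧
      (0 < n → Submodule.span K (Set.range σ) = ⊤ → Odd n) := by
  classical
  obtain ⟨M, hM⟩ := exists_pModular Nat.prime_two
  set hP := pmod_prime hM
  haveI := charP_res hP hM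
  haveI := isAlgClosed_res hP
  haveI : Fact (Nat.Prime 2) := ⟨Nat.prime_two⟩
  letI : Algebra (ZMod 2) K := ZMod.algebra K 2
  letI : Algebra (ZMod 2) (Res hP) := ZMod.algebra (Res hP) 2
  haveI : Algebra.IsAlgebraic (ZMod 2) K := Algebra.IsAlgebraic.of_finite (ZMod 2) K
  let ι : K →+* Res hP := (IsAlgClosed.lift : K →ₐ[ZMod 2] Res hP).toRingHom
  set σ' : D →* Matrix (Fin n) (Fin n) (Res hP) := ι.mapMatrix.toMonoidHom.comp σ with hσ'
  have hσ'inj : Function.Injective σ' := fun a b h => hσ (Matrix.map_injective ι.injective h)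
  set ψ := MonoidAlgebra.lift (Res hP) (Matrix (Fin n) (Fin n) (Res hP)) D σ' with hψ
  have hψs : ∀ g : D, ψ (MonoidAlgebra.single g 1) = σ' g := fun g => by simp [hψ]
  have hfin : ∀ χ : IrrCharacter D, ψ (E hM χ) ≠ 0 → deg (χ : D → ℂ) ≤ n := by
    intro χ hχ
    have h : finrank (Res hP) (LinearMap.range (LinearMap.mulLeft (Res hP) (E hM χ))) ≤
        finrank (Res hP) (Matrix (Fin n) (Fin n) (Res hP)) := by
      refine LinearMap.finrank_le_finrank_of_injective
        (f := ψ.toLinearMap.domRestrict (LinearMap.range (LinearMap.mulLeft (Res hP) (E hM χ)))) ?_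
      rw [← LinearMap.ker_eq_bot, eq_bot_iff]
      rintro ⟨_, y, rfl⟩ hy
      rw [Submodule.mem_bot]
      refine Subtype.ext (eq_zero_of_mem_block hM hodd ψ χ hχ ?_ hy)
      simp [← mul_assoc, E_sq hM hodd χ]
    rw [finrank_E hM hodd χ, Module.finrank_matrix, Fintype.card_fin, finrank_self, mul_one] at h
    exact Nat.mul_self_le_mul_self_iff.mp h
  have hsum : ∑ χ : IrrCharacter D, ψ (E hM χ) = 1 := by rw [← map_sum, sum_E hM hodd, map_one]
  constructor
  · intro g hg
    obtain ⟨χ, hχ, hχg⟩ : ∃ χ : IrrCharacter D, ψ (E hM χ) ≠ 0 ∧ (χ : D → ℂ) g ≠ (χ : D → ℂ) 1 := by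
      by_contra hno
      push Not at hno
      refine hg (hσ'inj ?_)
      rw [map_one]
      calc σ' g = (∑ χ : IrrCharacter D, ψ (E hM χ)) * σ' g := by rw [hsum, one_mul]
        _ = ∑ χ : IrrCharacter D, ψ (E hM χ) := by
          rw [Finset.sum_mul]
          refine Finset.sum_congr rfl fun χ _ => ?_
          by_cases h0 : ψ (E hM χ) = 0
          · rw [h0, zero_mul]
          rw [← hψs, ← map_mul, E, rdAlg_mul_single]
          congr 1
          have hch := irr_isCharacter χ.2
          have hk : (χ : D → ℂ) g⁻¹ = (χ : D → ℂ) 1 := by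
            rw [char_inv hch, hno χ h0, char_one_eq_deg hch, map_natCast]
          refine congrArg (rdAlg hP) (funext fun x => ?_)
          simp only [idem]
          rw [show (χ : D → ℂ) (x * g⁻¹) = (χ : D → ℂ) x by
            rw [show x * g⁻¹ = x * (g⁻¹ * x) * x⁻¹ by group, isClassFunction_character hch (g⁻¹ * x) x,
              char_mul_of_ker hch hk x]]
        _ = 1 := hsum
    obtain ⟨m, ρ, hρ, e⟩ := χ.2
    have hm : deg (χ : D → ℂ) = m := Nat.cast_injective (R := ℂ) (by
      rw [← char_one_eq_deg (irr_isCharacter χ.2), ← e, Representation.char_one, Module.finrank_fin_fun])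
    refine ⟨m, hm ▸ hfin χ hχ, ρ, fun h => hχg ?_⟩
    rw [← e]
    show LinearMap.trace ℂ _ (ρ g) = LinearMap.trace ℂ _ (ρ 1)
    rw [h, map_one ρ]
  · intro hn hspan
    haveI : NeZero n := ⟨hn.ne'⟩
    have hsurj : ∀ A : Matrix (Fin n) (Fin n) (Res hP), A ∈ LinearMap.range ψ.toLinearMap := by
      have hK : ∀ B : Matrix (Fin n) (Fin n) K, B.map ι ∈ LinearMap.range ψ.toLinearMap := by
        intro B
        have hB : B ∈ Submodule.span K (Set.range σ) := hspan ▸ Submodule.mem_top
        induction hB using Submodule.span_induction with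
        | mem x hx =>
          obtain ⟨g, rfl⟩ := hx
          exact ⟨MonoidAlgebra.single g 1, hψs g⟩
        | zero => simp
        | add x y _ _ hx hy => rw [Matrix.map_add _ (map_add ι)]; exact add_mem hx hy
        | smul c x _ hx =>
          rw [show (c • x).map ι = ι c • x.map ι from Matrix.ext fun i j => map_mul ι _ _]
          exact Submodule.smul_mem _ _ hx
      intro A
      rw [Matrix.matrix_eq_sum_single A]
      refine Submodule.sum_mem _ fun i _ => Submodule.sum_mem _ fun j _ => ?_
      have := Submodule.smul_mem _ (A i j) (hK (Matrix.single i j 1))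
      rwa [Matrix.map_single _ _ _ ι, map_one, Matrix.smul_single, smul_eq_mul,
        mul_one] at this
    obtain ⟨χ, hχ⟩ : ∃ χ : IrrCharacter D, ψ (E hM χ) ≠ 0 := by
      by_contra hno
      push Not at hno
      rw [Finset.sum_eq_zero fun χ _ => hno χ] at hsum
      exact zero_ne_one hsum
    have hone : ψ (E hM χ) = 1 := by
      obtain ⟨c, hc⟩ := Matrix.mem_range_scalar_iff_commute_single'.mpr fun i j => by
        obtain ⟨y, hy⟩ := hsurj (Matrix.single i j 1)
        rw [← hy]
        show ψ y * _ = _ * ψ y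
        rw [← map_mul, ← map_mul, E_comm hM hodd χ y]
      have h2 := congrArg ψ (E_sq hM hodd χ)
      rw [map_mul, ← hc, ← map_mul] at h2
      have h3 : c * c = c := by
        have := congrArg (fun A : Matrix (Fin n) (Fin n) (Res hP) => A 0 0) h2
        simpa using this
      have h0 : c ≠ 0 := fun h => hχ (by rw [← hc, h, map_zero])
      rw [← hc, mul_left_cancel₀ h0 (h3.trans (mul_one c).symm), map_one]
    have hle : finrank (Res hP) (Matrix (Fin n) (Fin n) (Res hP)) ≤
        finrank (Res hP) (LinearMap.range (LinearMap.mulLeft (Res hP) (E hM χ))) := by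
      refine LinearMap.finrank_le_finrank_of_surjective
        (f := ψ.toLinearMap.domRestrict (LinearMap.range (LinearMap.mulLeft (Res hP) (E hM χ)))) fun A => ?_
      obtain ⟨y, hy⟩ := hsurj A
      refine ⟨⟨E hM χ * y, y, rfl⟩, ?_⟩
      show ψ (E hM χ * y) = A
      rw [map_mul, hone, one_mul]
      exact hy
    rw [finrank_E hM hodd χ, Module.finrank_matrix, Fintype.card_fin, finrank_self, mul_one] at hle
    have heq : n = deg (χ : D → ℂ) := le_antisymm (Nat.mul_self_le_mul_self_iff.mp hle) (hfin χ hχ)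
    rw [heq]
    exact hodd.of_dvd_nat (deg_dvd_card χ.2)

end Cfsg.Agent.Lie.OddSmall
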