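import Cfsg.Agent.Lib.Lie.OddSmall.Key
import Cfsg.Agent.Lib.Char.SmallDegreeFirstPower
import Cfsg.Agent.Lib.Char.DegreeDvd

/-!
# Linear groups of odd order and degree at most `(p - 1) / 2`

The Sylow `p`-subgroup is normal: in the proof of Brauer and of Feit and Thompson the non-trivial sign in the
principal block gives a character of degree `p - 1`, which cannot divide an odd order.
-/

set_option autoImplicit false
set_option linter.unusedSectionVars false
set_option linter.style.haveILetI false

open Cfsg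
open scoped ComplexConjugate Classical

namespace Cfsg.Agent.Lie.OddSmall

open Cfsg.Agent Cfsg.Agent.Char Cfsg.Agent.Char.SmallBound DefectOne

universe u

variable {G : Type u} [Group G] [Fintype G] {p : ℕ} [Fact p.Prime] {P : Sylow p G} {V : Subgroup G}
  [Fintype V] [Fintype (↥(P : Subgroup G) →* ℂˣ)]

set_option maxHeartbeats 1000000 in
/-- The contradiction. -/
theorem no_partner (hL : Loc P V) {q : ℕ} (hq : FrobSylow P q) (hq2 : 2 ≤ q)
    (hcen : ∀ K : Subgroup G, K.Normal → K ≠ ⊤ → K ≤ Subgroup.center G)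
    (hlin : ∀ χ : IrrCharacter G, deg (χ : G → ℂ) = 1 → χ = triv G) (φ φ' : IrrCharacter G) (hne : φ' ≠ φ)
    (hreg : ∀ g : G, ¬ p ∣ orderOf g → (φ' : G → ℂ) g = (φ : G → ℂ) g)
    (hzero : ∑ y : ↥(P : Subgroup G), (φ : G → ℂ) (y : G) * conj ((φ' : G → ℂ) (y : G)) = 0)
    (hd : 2 * deg (φ : G → ℂ) + 1 ≤ p) (hqd : q ≤ deg (φ : G → ℂ))
    (hodd : Odd (Nat.card G)) : False := by
  have hp : p.Prime := Fact.out
  have hp0 : (p : ℂ) ≠ 0 := Nat.cast_ne_zero.mpr hp.ne_zero
  have hP := hL.card
  obtain ⟨M, hM⟩ := exists_pModular hp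
  have hMp := pmod_prime hM
  obtain ⟨X, Y, a, δ, hPP⟩ := exists_prime_principal (P := P) hM hP hq.index
  obtain ⟨r, -, -, -, hrq, -⟩ := hq.exists_orbit_index
  rw [hP] at hrq
  have hr3 : 2 ≤ r := by
    by_contra h
    have := Nat.mul_le_mul_right q (show r ≤ 1 by omega)
    omega
  have hYcard : Y.card = r := by
    rw [hPP.cardY, ← hrq, Nat.add_sub_cancel, Nat.mul_div_cancel _ (by omega)]
  have hXcard : X.card = q := hPP.cardX
  have hN0 : (nonOne P).card = p - 1 := by
    rw [nonOne, Finset.filter_congr (q := fun y : ↥(P : Subgroup G) => y ≠ 1) fun y _ => by simp,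
      Finset.filter_ne', Finset.card_erase_of_mem (Finset.mem_univ _), Finset.card_univ, ← Nat.card_eq_fintype_card, hP]
  have hsplit : ∀ F : ↥(P : Subgroup G) → ℂ, ∑ y, F y = F 1 + ∑ y ∈ nonOne P, F y := by
    intro F
    rw [← Finset.add_sum_erase _ _ (Finset.mem_univ (1 : ↥(P : Subgroup G)))]
    refine congrArg _ (Finset.sum_congr ?_ fun _ _ => rfl)
    ext y; simp [nonOne]
  have hpos : ∀ θ : IrrCharacter G, 1 ≤ deg (θ : G → ℂ) := fun θ => deg_pos θ.2
  have hd1 : ∀ θ : IrrCharacter G, (θ : G → ℂ) 1 = (deg (θ : G → ℂ) : ℂ) := fun θ =>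
    char_one_eq_deg (irr_isCharacter θ.2)
  have hbig : ∀ θ : IrrCharacter G, θ ≠ triv G → 2 ≤ deg (θ : G → ℂ) := fun θ hθ => by
    have := hpos θ
    rcases Nat.lt_or_ge (deg (θ : G → ℂ)) 2 with h | h
    · exact absurd (hlin θ (by omega)) hθ
    · exact h
  -- the trivial character is not exceptional
  have htX : triv G ∈ X := by
    refine ((hPP.mem_iff _).mp (sameBlock_refl hMp (fun _ : G => (1 : ℂ)))).resolve_right fun hY => ?_
    have hsub : Y ⊆ {triv G} := fun θ hθ => by
      refine Finset.mem_singleton.mpr (hlin θ (Nat.cast_injective (R := ℂ) ?_))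
      rw [← hd1 θ, hPP.regY θ hθ (triv G) hY 1 (by simp [hp.ne_one]), Nat.cast_one]
    have := Finset.card_le_card hsub
    rw [Finset.card_singleton, hYcard] at this
    omega
  obtain ⟨y1, hy1⟩ := exists_nonOne hP
  have hat : a (triv G) = 1 := by
    have h := hPP.a_val _ htX y1 (mem_nonOne.mpr hy1)
    have h2 : ((a (triv G) : ℤ) : ℂ) = ((1 : ℤ) : ℂ) := h.symm.trans Int.cast_one.symm
    exact_mod_cast h2
  have hXB : ∀ χ ∈ X, χ ∈ principalBlock M G := fun χ h => (hPP.mem_iff χ).mpr (Or.inl h)
  have hYB : ∀ χ ∈ Y, χ ∈ principalBlock M G := fun χ h => (hPP.mem_iff χ).mpr (Or.inr h)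
  have hXsing : ∀ χ ∈ X, ∀ g : G, p ∣ orderOf g → (χ : G → ℂ) g = (a χ : ℂ) := by
    intro χ hχ g hg
    obtain ⟨y, hy, e⟩ := singular_value hM hq (hXB χ hχ) hg
    rw [e, hPP.a_val χ hχ y hy]
  -- the two products
  have hch1 : IsCharacter G ((φ : G → ℂ) * fun g => conj ((φ : G → ℂ) g)) :=
    isCharacter_mul (irr_isCharacter φ.2) (isCharacter_conj (irr_isCharacter φ.2))
  have hch2 : IsCharacter G ((φ : G → ℂ) * fun g => conj ((φ' : G → ℂ) g)) :=
    isCharacter_mul (irr_isCharacter φ.2) (isCharacter_conj (irr_isCharacter φ'.2))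
  obtain ⟨m1, hm1⟩ := exists_decomposition hch1
  obtain ⟨m2, hm2⟩ := exists_decomposition hch2
  have ht1 : ∀ ψ : IrrCharacter G, classInner ((φ : G → ℂ) * fun g => conj ((ψ : G → ℂ) g)) (triv G : G → ℂ) =
      classInner (φ : G → ℂ) (ψ : G → ℂ) := fun ψ => by simp [classInner]
  have hm1t : m1 (triv G) = 1 := Nat.cast_injective (R := ℂ) (by
    rw [← decomposition_coeff m1 hm1, ht1, irrC_orth, if_pos rfl, Nat.cast_one])
  have hm2t : m2 (triv G) = 0 := Nat.cast_injective (R := ℂ) (by
    rw [← decomposition_coeff m2 hm2, ht1, irrC_orth, if_neg fun e => hne e.symm, Nat.cast_zero])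
  have hdiff : ∀ Δ : G → ℂ, (∀ g : G, p ∣ orderOf g → Δ g = 0) →
      classInner ((φ : G → ℂ) * fun g => conj ((φ : G → ℂ) g)) Δ =
        classInner ((φ : G → ℂ) * fun g => conj ((φ' : G → ℂ) g)) Δ := by
    intro Δ hΔ
    simp only [classInner]
    refine congrArg _ (Finset.sum_congr rfl fun g _ => ?_)
    by_cases hg : p ∣ orderOf g
    · rw [hΔ g hg, map_zero, mul_zero, mul_zero]
    · simp only [Pi.mul_apply, hreg g hg]
  have hshift : ∀ χ ∈ X, (m1 χ : ℤ) - a χ = (m2 χ : ℤ) := by
    intro χ hχ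
    have h := hdiff ((χ : G → ℂ) - (a χ : ℂ) • (triv G : G → ℂ)) fun g hg => by
      simp [hXsing χ hχ g hg]
    rw [classInner_sub_right, classInner_sub_right, classInner_smul_right, classInner_smul_right, map_intCast,
      decomposition_coeff m1 hm1, decomposition_coeff m1 hm1, decomposition_coeff m2 hm2, decomposition_coeff m2 hm2,
      hm1t, hm2t, Nat.cast_one, Nat.cast_zero, mul_one, mul_zero, sub_zero] at h
    exact_mod_cast h
  -- fixed vectors on `P`
  choose F hF using fun χ : IrrCharacter G => exists_sum_on_sylow (P := P) χ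
  simp only [hP] at hF
  have hfix : ∀ (ψ : IrrCharacter G) (m : IrrCharacter G → ℕ),
      ((φ : G → ℂ) * fun g => conj ((ψ : G → ℂ) g)) = ∑ χ, m χ • (χ : G → ℂ) →
      ∑ y : ↥(P : Subgroup G), (φ : G → ℂ) (y : G) * conj ((ψ : G → ℂ) (y : G)) =
        (p : ℂ) * ((∑ χ, m χ * F χ : ℕ) : ℂ) := by
    intro ψ m hm
    have h1 : ∀ g, (φ : G → ℂ) g * conj ((ψ : G → ℂ) g) = ∑ χ, (m χ : ℂ) * (χ : G → ℂ) g := fun g => by
      have := congrFun hm g
      simpa [Finset.sum_apply] using this
    simp only [h1]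
    rw [Finset.sum_comm, Nat.cast_sum, Finset.mul_sum]
    refine Finset.sum_congr rfl fun χ _ => ?_
    rw [← Finset.mul_sum, hF, Nat.cast_mul]
    ring
  have hnofix : ∀ χ, m2 χ ≠ 0 → ∑ y : ↥(P : Subgroup G), (χ : G → ℂ) (y : G) = 0 := by
    intro χ hχ
    have h := hfix φ' m2 hm2
    rw [hzero, eq_comm, mul_eq_zero, or_iff_right hp0, Nat.cast_eq_zero, Finset.sum_eq_zero_iff] at h
    rw [hF, (mul_eq_zero.mp (h χ (Finset.mem_univ _))).resolve_left hχ, Nat.cast_zero, mul_zero]
  have hXsum : ∀ χ ∈ X, ∑ y : ↥(P : Subgroup G), (χ : G → ℂ) (y : G) =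
      (deg (χ : G → ℂ) : ℂ) + ((p : ℂ) - 1) * (a χ : ℂ) := by
    intro χ hχ
    rw [hsplit, OneMemClass.coe_one, hd1, Finset.sum_congr rfl fun y hy => hPP.a_val χ hχ y hy, Finset.sum_const, hN0,
      nsmul_eq_mul, Nat.cast_sub hp.one_le, Nat.cast_one]
  by_cases hall : ∀ χ ∈ X, a χ = 1
  · -- all signs equal
    have hrel : ∀ θ ∈ Y, δ * (deg (θ : G → ℂ) : ℤ) = ((∑ χ ∈ X, deg (χ : G → ℂ) : ℕ) : ℤ) := by
      intro θ hθ
      have h := hPP.rel θ hθ 1 (by simp [hp.ne_one])
      rw [hd1, Finset.sum_congr rfl (g := fun χ : IrrCharacter G => ((deg (χ : G → ℂ) : ℕ) : ℂ)) fun χ hχ => by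
        rw [hall χ hχ, hd1, Int.cast_one, one_mul]] at h
      exact_mod_cast h
    obtain ⟨θ1, hθ1⟩ : Y.Nonempty := Finset.card_pos.mp (by omega)
    have hXpos : 2 * q - 1 ≤ ∑ χ ∈ X, deg (χ : G → ℂ) := by
      rw [← Finset.add_sum_erase _ _ htX, deg_triv]
      have h1 : (X.erase (triv G)).card * 2 ≤ ∑ χ ∈ X.erase (triv G), deg (χ : G → ℂ) := by
        rw [← smul_eq_mul, ← Finset.sum_const]
        exact Finset.sum_le_sum fun χ hχ => hbig χ (Finset.mem_erase.mp hχ).1
      rw [Finset.card_erase_of_mem htX, hXcard] at h1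
      omega
    have hδ1 : δ = 1 := by
      rcases hPP.sign with h | h
      · exact h
      · have := hrel θ1 hθ1
        rw [h] at this
        omega
    subst hδ1
    simp only [one_mul, Int.natCast_inj] at hrel
    set D := ∑ χ ∈ X, deg (χ : G → ℂ) with hDdef
    -- the exceptional characters add up to minus one
    have hYsing : ∀ g : G, p ∣ orderOf g → ∑ θ ∈ Y, (θ : G → ℂ) g = -1 := by
      intro g hg
      have hw := weak_orthogonality hM (isPBlock_principalBlock M) (x := (1 : G)) (y := g⁻¹) (by simp [hp.ne_one])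
        (by rwa [orderOf_inv])
      rw [finsum_mem_irr, Finset.sum_congr rfl (g := fun χ : IrrCharacter G => (χ : G → ℂ) 1 * (χ : G → ℂ) g)
        fun χ _ => by rw [char_inv (irr_isCharacter χ.2), Complex.conj_conj],
        show (Finset.univ.filter fun χ : IrrCharacter G => χ ∈ principalBlock M G) = X ∪ Y by
          ext χ; simp [hPP.mem_iff],
        Finset.sum_union hPP.disj,
        Finset.sum_congr rfl (g := fun χ : IrrCharacter G => (deg (χ : G → ℂ) : ℂ)) fun χ hχ => by
          rw [hXsing χ hχ g hg, hall χ hχ, Int.cast_one, mul_one, hd1],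
        ← Nat.cast_sum, ← hDdef,
        Finset.sum_congr rfl (g := fun θ : IrrCharacter G => (D : ℂ) * (θ : G → ℂ) g) fun θ hθ => by
          rw [hd1, hrel θ hθ], ← Finset.mul_sum] at hw
      have hD0 : (D : ℂ) ≠ 0 := Nat.cast_ne_zero.mpr (by omega)
      exact mul_left_cancel₀ hD0 (by linear_combination hw)
    have htY : triv G ∉ Y := Finset.disjoint_left.mp hPP.disj htX
    -- one of them has no fixed vector
    obtain ⟨θ0, hθ0, hm0⟩ : ∃ θ ∈ Y, m2 θ ≠ 0 := by
      by_contra hno
      push Not at hno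
      have h := hdiff (∑ θ ∈ Y, (θ : G → ℂ) + (triv G : G → ℂ)) fun g hg => by
        rw [Pi.add_apply, Finset.sum_apply, hYsing g hg]
        simp
      rw [classInner_add_right, classInner_add_right, classInner_sum_right, classInner_sum_right,
        decomposition_coeff m1 hm1, decomposition_coeff m2 hm2,
        Finset.sum_congr rfl fun θ _ => decomposition_coeff m1 hm1 θ,
        Finset.sum_congr rfl fun θ _ => decomposition_coeff m2 hm2 θ, hm1t, hm2t,
        ← Nat.cast_sum, ← Nat.cast_sum, Finset.sum_eq_zero hno] at h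
      have h2 : (∑ θ ∈ Y, m1 θ) + 1 = 0 + 0 := by exact_mod_cast h
      omega
    have hSeq : ∀ θ ∈ Y, ∑ y ∈ nonOne P, (θ : G → ℂ) (y : G) = -(D : ℂ) := by
      intro θ hθ
      have h0 := hnofix θ0 hm0
      rw [hsplit, OneMemClass.coe_one, hd1, hrel θ0 hθ0] at h0
      have hFc : IsClassFunction G fun g => (θ : G → ℂ) g - (θ0 : G → ℂ) g := fun g k => by
        simp only [isClassFunction_character (irr_isCharacter θ.2) g k,
          isClassFunction_character (irr_isCharacter θ0.2) g k]
      have h1 := hq.sum_singular_const hFc fun y hy v hv => by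
        simp only [hq.principal_const hM (hYB θ hθ) hy v hv, hq.principal_const hM (hYB θ0 hθ0) hy v hv]
      have h2 : ∑ g : G with p ∣ orderOf g, ((θ : G → ℂ) g - (θ0 : G → ℂ) g) = 0 := by
        have h3 : ∑ g : G, ((θ : G → ℂ) g - (θ0 : G → ℂ) g) = 0 := by
          rw [Finset.sum_sub_distrib, sum_char_eq_zero fun h => htY (h ▸ hθ),
            sum_char_eq_zero fun h => htY (h ▸ hθ0), sub_zero]
        rw [← Finset.sum_filter_add_sum_filter_not Finset.univ (fun g : G => p ∣ orderOf g),
          Finset.sum_eq_zero (s := Finset.univ.filter fun g : G => ¬ p ∣ orderOf g) fun g hg => by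
            rw [hPP.regY θ hθ θ0 hθ0 g (Finset.mem_filter.mp hg).2, sub_self], add_zero] at h3
        exact h3
      rw [h2, mul_zero, eq_comm, mul_eq_zero, or_iff_right (Nat.cast_ne_zero.mpr Nat.card_pos.ne'),
        Finset.sum_sub_distrib] at h1
      linear_combination h1 + h0
    have hDq : D = q := by
      have h1 : ∑ θ ∈ Y, ∑ y ∈ nonOne P, (θ : G → ℂ) (y : G) = -((p - 1 : ℕ) : ℂ) := by
        have hs : ∀ y ∈ nonOne P, ∑ θ ∈ Y, (θ : G → ℂ) (y : G) = -1 := fun y hy => hYsing _ (by
          have hy1' : y ≠ 1 := fun h => mem_nonOne.mp hy (congrArg Subtype.val h)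
          have h := pow_card_eq_one' (x := y)
          rw [hP] at h
          rw [Subgroup.orderOf_coe, orderOf_eq_prime h hy1'])
        rw [Finset.sum_comm, Finset.sum_congr rfl hs, Finset.sum_const, hN0, nsmul_eq_mul, mul_neg, mul_one]
      rw [Finset.sum_congr rfl hSeq, Finset.sum_const, hYcard, nsmul_eq_mul, mul_neg, neg_inj] at h1
      have h2 : r * D = p - 1 := by exact_mod_cast h1
      exact Nat.eq_of_mul_eq_mul_left (by omega) (show r * D = r * q by omega)
    omega
  · -- a sign is negative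
    push Not at hall
    obtain ⟨χ0, hχ0, ha0⟩ := hall
    have hminus : ∀ χ ∈ X, a χ ≠ 1 → a χ = -1 ∧ 1 ≤ m2 χ ∧ deg (χ : G → ℂ) = p - 1 := by
      intro χ hχ hne'
      have ha' : a χ = -1 := (hPP.a_sign χ hχ).resolve_left hne'
      have hm := hshift χ hχ
      rw [ha'] at hm
      refine ⟨ha', by omega, ?_⟩
      have h := hnofix χ (by omega)
      rw [hXsum χ hχ, ha'] at h
      apply Nat.cast_injective (R := ℂ)
      rw [Nat.cast_sub hp.one_le, Nat.cast_one]
      push_cast at h
      linear_combination h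
    obtain ⟨ha0', hm0, hdeg0⟩ := hminus χ0 hχ0 ha0
    have hdvd : deg (χ0 : G → ℂ) ∣ Nat.card G := by
      have := deg_dvd_index_central χ0.2 ⊥ bot_le
      rwa [Subgroup.index_bot] at this
    rw [hdeg0] at hdvd
    have hodd' := hodd.of_dvd_nat hdvd
    have hpodd : p % 2 = 1 := hp.eq_two_or_odd.resolve_left (by omega)
    rw [Nat.odd_iff] at hodd'
    omega

end Cfsg.Agent.Lie.OddSmall

namespace Cfsg.Agent.Lie.OddSmall

open Cfsg.Agent Cfsg.Agent.Char Cfsg.Agent.Char.SmallBound DefectOne

universe u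

variable {p : ℕ} [hp : Fact p.Prime] {n : ℕ}

theorem normal_sylow_first_power (hn : 2 * n + 1 ≤ p) :
    ∀ (N : ℕ) (G : Type u) [Group G] [Fintype G] (ρ : Representation ℂ G (Fin n → ℂ)),
      Nat.card G = N → Function.Injective ρ → Odd (Nat.card G) → ¬ p ^ 2 ∣ Nat.card G →
      ∀ P : Sylow p G, (P : Subgroup G).Normal := by
  intro N
  induction N using Nat.strong_induction_on with
  | _ N ih =>
    intro G _ _ ρ hN hρ hodd hsq P
    by_cases hdiv : p ∣ Nat.card G
    swap
    · have h1 : Nat.card P = 1 := by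
        rw [P.card_eq_multiplicity, Nat.factorization_eq_zero_of_not_dvd hdiv, pow_zero]
      rw [Subgroup.card_eq_one.mp h1]
      infer_instance
    by_contra hnn
    have hn0 : n ≠ 0 := by
      rintro rfl
      refine hnn ⟨fun a ha b => ?_⟩
      rw [show b = 1 from hρ (LinearMap.ext fun v => Subsingleton.elim _ _)]
      simpa using ha
    have hn1 : n + 1 < p := by omega
    have hfac : (Nat.card G).factorization p = 1 := by
      have h1 := (hp.out.dvd_iff_one_le_factorization Nat.card_pos.ne').mp hdiv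
      have h2 : ¬ 2 ≤ (Nat.card G).factorization p := fun h =>
        hsq ((hp.out.pow_dvd_iff_le_factorization Nat.card_pos.ne').mpr h)
      omega
    have hP : Nat.card P = p := by rw [P.card_eq_multiplicity, hfac, pow_one]
    have hpow : ∀ u ∈ (P : Subgroup G), u ^ p ^ 1 = 1 := fun u hu => by
      have h := pow_card_eq_one' (x := (⟨u, hu⟩ : (P : Subgroup G)))
      rw [hP] at h
      rw [pow_one]
      exact congrArg Subtype.val h
    have hprop : ∀ L : Subgroup G, L ≠ ⊤ → ∀ Q : Sylow p L, (Q : Subgroup L).Normal := by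
      intro L hL Q
      haveI := Fintype.ofFinite L
      refine ih (Nat.card L) ?_ L (ρ.comp L.subtype) rfl (hρ.comp L.subtype_injective)
        (hodd.of_dvd_nat (Subgroup.card_subgroup_dvd_card L)) (fun h => hsq (h.trans (Subgroup.card_subgroup_dvd_card L))) Q
      rw [← hN]
      exact lt_of_le_of_ne (Subgroup.card_le_card_group L) fun e => hL (Subgroup.eq_top_of_card_eq L e)
    have hall : ∀ K : Subgroup G, K.Normal → (P : Subgroup G) ≤ K → K = ⊤ := fun K hK hPK => by
      by_contra hne
      haveI := hK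
      exact hnn (SmallSylow.normal_of_le P K hPK (hprop K hne))
    -- normal subgroups of order prime to `p` are centralized
    have hpprime : ∀ K : Subgroup G, K.Normal → ¬ p ∣ Nat.card K → K ≤ Subgroup.center G := by
      intro K hK hKp
      haveI := hK
      have hPK : (P : Subgroup G) ≤ Subgroup.centralizer (K : Set G) := fun u hu =>
        Subgroup.mem_centralizer_iff.mpr fun g hg =>
          (SmallSylow.commute_pprime ρ hρ hn1 1 u (hpow u hu) K hKp
            (by rw [Subgroup.normalizer_eq_top]; trivial) g hg).eq.symm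
      have hC := hall _ (Subgroup.normal_centralizer (H := K)) hPK
      intro g hg
      exact Subgroup.mem_center_iff.mpr fun y =>
        (Subgroup.mem_centralizer_iff.mp (hC ▸ Subgroup.mem_top y) g hg).symm
    -- normal subgroups of order divisible by `p` are everything
    have hpdvd : ∀ K : Subgroup G, K.Normal → p ∣ Nat.card K → K = ⊤ := by
      intro K hK hKp
      refine hall K hK ?_
      obtain ⟨x, hx⟩ := exists_prime_orderOf_dvd_card' p hKp
      have hxo : orderOf (x : G) = p := by rw [Subgroup.orderOf_coe, hx]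
      obtain ⟨Q, hQ⟩ := (IsPGroup.of_card (n := 1) (by rw [Nat.card_zpowers, hxo, pow_one]) :
        IsPGroup p (Subgroup.zpowers (x : G))).exists_le_sylow
      obtain ⟨c, hc⟩ := MulAction.exists_smul_eq G Q P
      have hmem : c * (x : G) * c⁻¹ ∈ (P : Subgroup G) := by
        rw [← hc, Sylow.coe_subgroup_smul]
        exact ⟨(x : G), hQ (Subgroup.mem_zpowers _), rfl⟩
      have hne : c * (x : G) * c⁻¹ ≠ 1 := fun h => by
        rw [conj_eq_one_iff] at h
        rw [h, orderOf_one] at hxo
        exact hp.out.ne_one hxo.symm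
      rw [← eq_zpowers_of_prime_sylow hP hmem hne, Subgroup.zpowers_le]
      exact hK.conj_mem _ x.2 c
    by_cases hperf : commutator G = ⊤
    swap
    · -- the derived subgroup is central, so `P` is normal
      haveI : (commutator G).Normal := inferInstance
      have hCp : ¬ p ∣ Nat.card (commutator G) := fun h => hperf (hpdvd _ inferInstance h)
      have hcenter := hpprime _ inferInstance hCp
      have hA : (commutator G ⊔ (P : Subgroup G)) = ⊤ := by
        haveI : (commutator G ⊔ (P : Subgroup G)).Normal := Subgroup.Normal.of_commutator_le _ le_sup_left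
        exact hall _ inferInstance le_sup_right
      refine hnn (Subgroup.normalizer_eq_top_iff.mp (eq_top_iff.mpr (hA ▸ sup_le
        (hcenter.trans ((Subgroup.center_le_centralizer _).trans (Subgroup.centralizer_le_normalizer _)))
        Subgroup.le_normalizer)))
    have hlin : ∀ χ : IrrCharacter G, deg (χ : G → ℂ) = 1 → χ = triv G := by
      intro χ hχ
      obtain ⟨l, hl⟩ := exists_hom_of_degree_one (irr_isCharacter χ.2)
        (by rw [char_one_eq_deg (irr_isCharacter χ.2), hχ, Nat.cast_one])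
      have hker : commutator G ≤ l.ker := Abelianization.commutator_subset_ker l
      refine Subtype.ext (funext fun g => ?_)
      rw [hl]
      show ((l g : ℂˣ) : ℂ) = 1
      rw [show l g = 1 from hker (hperf ▸ Subgroup.mem_top g), Units.val_one]
    have hcen : ∀ K : Subgroup G, K.Normal → K ≠ ⊤ → K ≤ Subgroup.center G := fun K hK hne =>
      hpprime K hK fun h => hne (hpdvd K hK h)
    -- the inertial index
    set q := (Subgroup.centralizer ((P : Subgroup G) : Set G)).relIndex
      (Subgroup.normalizer ((P : Subgroup G) : Set G)) with hqdef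
    have hq : FrobSylow P q := frobSylow_of_prime hP
    have hq0 : q ≠ 0 := Subgroup.index_ne_zero_of_finite
    have hq2 : 2 ≤ q := by
      by_contra hlt
      have hq1 : q = 1 := by omega
      have hNC : Subgroup.normalizer ((P : Subgroup G) : Set G) ≤ Subgroup.centralizer ((P : Subgroup G) : Set G) :=
        Subgroup.relIndex_eq_one.mp hq1
      have hnp := Fusion.hnpc_of_normalizer_le_centralizer P hNC
      have hcop := Fusion.hnpc_iff.1 hnp
      have hV : pResidual p G ≤ Subgroup.center G :=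
        hpprime _ inferInstance (Fusion.coprime_card_iff_not_dvd.1 hcop)
      have hsup := (Fusion.isComplement'_of_coprime_card P hcop).sup_eq_top
      exact hnn (Subgroup.normalizer_eq_top_iff.mp (eq_top_iff.mpr (hsup ▸ sup_le
        (hV.trans ((Subgroup.center_le_centralizer _).trans (Subgroup.centralizer_le_normalizer _)))
        Subgroup.le_normalizer)))
    -- a constituent which is nontrivial on `P`
    obtain ⟨y0, hy0⟩ := exists_nonOne hP
    obtain ⟨m, hm⟩ := exists_decomposition (isCharacter_character ρ)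
    obtain ⟨φ, hφ, hφy⟩ : ∃ φ : IrrCharacter G, m φ ≠ 0 ∧ (φ : G → ℂ) (y0 : G) ≠ (φ : G → ℂ) 1 := by
      by_contra hno
      push Not at hno
      refine hy0 (SmallSylow.eq_one_of_char ρ hρ ?_)
      have e1 := congrFun hm (y0 : G)
      have e2 := congrFun hm 1
      simp only [Finset.sum_apply, Pi.smul_apply] at e1 e2
      rw [e1, ← SmallSylow.char_one_nat ρ, e2]
      refine Finset.sum_congr rfl fun φ _ => ?_
      by_cases h0 : m φ = 0
      · rw [h0, zero_smul, zero_smul]
      · rw [hno φ h0]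
    have hdn : deg (φ : G → ℂ) ≤ n := SmallSylow.deg_le m hm (d := n) (SmallSylow.char_one_nat ρ) hφ
    have hd : 2 * deg (φ : G → ℂ) + 1 ≤ p := by omega
    -- the local analysis
    let S : PConj.Setup G p :=
      { a := (Nat.card G).factorization p
        m := Nat.card G / p ^ (Nat.card G).factorization p
        cop := (hp.out.coprime_iff_not_dvd.2 (Nat.not_dvd_ordCompl hp.out Nat.card_pos.ne')).pow_left _
        card := (Nat.ordProj_mul_ordCompl_eq_self _ _).symm
        ndvd := Nat.not_dvd_ordCompl hp.out Nat.card_pos.ne' }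
    haveI := hq.finite_dual.1
    haveI : Fintype (↥(P : Subgroup G) →* ℂˣ) := Fintype.ofFinite _
    obtain ⟨V, hL⟩ := exists_loc hP
    haveI := Fintype.ofFinite V
    obtain ⟨l₀, hl₀, hsupp, hsum⟩ := support hL S hdiv hsq hq φ hd hφy
    have hqd := inertia_le hL hq φ hl₀ hsupp
    obtain ⟨φ', hne, hreg, hzero⟩ := exists_partner hL S hq φ hqd hd hl₀ hsupp
    exact no_partner hL hq hq2 hcen hlin φ φ' hne hreg hzero hd hqd hodd


/-- The theorem of Feit and Thompson for odd order and degree at most `(p - 1) / 2`. -/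
theorem normal_sylow_odd (hn : 2 * n + 1 ≤ p) {G : Type u} [Group G] [Fintype G]
    (ρ : Representation ℂ G (Fin n → ℂ)) (hρ : Function.Injective ρ) (hodd : Odd (Nat.card G))
    (P : Sylow p G) : (P : Subgroup G).Normal := by
  rcases Nat.eq_zero_or_pos n with hn0 | hn0
  · subst hn0
    refine ⟨fun a ha b => ?_⟩
    rw [show b = 1 from hρ (LinearMap.ext fun v => Subsingleton.elim _ _)]
    simpa using ha
  refine SmallSylow.normal_sylow (n := n) (Nat.card G) G ρ rfl hρ (Or.inr ⟨by omega, fun K hK Q => ?_⟩) P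
  haveI := Fintype.ofFinite K
  exact normal_sylow_first_power hn _ K (ρ.comp K.subtype) rfl (hρ.comp K.subtype_injective)
    (hodd.of_dvd_nat (Subgroup.card_subgroup_dvd_card K)) hK Q

end Cfsg.Agent.Lie.OddSmall
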