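import Cfsg.Agent.Lib.Lie.OddSmall.Sylow
import Cfsg.Agent.Lib.Lie.OddSmall.Lift
import Cfsg.Agent.Lib.Lie.OddSmall.Density
import Cfsg.Agent.Lib.Perm.Fpf.Structure
import Cfsg.Agent.Lib.Solv.Cores
import Cfsg.Agent.S2904
import Cfsg.Agent.Lib.OddLocal.CNMinimal
import Mathlib

/-!
# Groups of odd order transitive on the non-zero vectors

Such a group has a normal subgroup `Z` of prime order whose centralizer is cyclic and fixed-point-free, so the
centralizer is the Fitting subgroup and the quotient by it is cyclic.  No solvability is assumed: the Sylow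
subgroup for a primitive prime divisor of `|E| - 1` is normal by the theorem on linear groups of odd order and
degree at most `(r - 1) / 2`, applied to the complex characters of small degree obtained by lifting.
-/

set_option autoImplicit false
set_option linter.unusedSectionVars false
set_option linter.style.haveILetI false

open Cfsg

namespace Cfsg.Agent.Lie.OddSmall

open Cfsg.Agent

universe u v

variable {D : Type u} [Group D] [Finite D] {E : Type v} [AddCommGroup E] [Finite E]
  [DistribMulAction D E] [FaithfulSMul D E]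

variable (hodd : Odd (Nat.card D)) (hE : ∀ e : E, 2 • e = 0)
  (htrans : ∀ a b : E, a ≠ 0 → b ≠ 0 → ∃ d : D, d • a = b)

omit [Finite D] [Finite E] [FaithfulSMul D E] in
theorem smul_pow_fixed {g : D} {u : E} (h : g • u = u) (k : ℕ) : g ^ k • u = u := by
  induction k with
  | zero => simp
  | succ k ih => rw [pow_succ', mul_smul, ih, h]

omit [Finite D] [Finite E] [FaithfulSMul D E] in
include htrans in
/-- An invariant subgroup is trivial or everything. -/
theorem invariant_cases (U : AddSubgroup E) (hU : ∀ (d : D), ∀ u ∈ U, d • u ∈ U) : U = ⊥ ∨ U = ⊤ := by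
  by_cases h : ∃ u ∈ U, u ≠ 0
  · obtain ⟨u, hu, hu0⟩ := h
    refine Or.inr (eq_top_iff.mpr fun x _ => ?_)
    by_cases hx : x = 0
    · rw [hx]; exact U.zero_mem
    · obtain ⟨d, rfl⟩ := htrans u x hu0 hx
      exact hU d u hu
  · push Not at h
    exact Or.inl ((AddSubgroup.eq_bot_iff_forall _).mpr h)

include htrans in
theorem card_sub_one_dvd [Nontrivial E] : Nat.card E - 1 ∣ Nat.card D := by
  classical
  obtain ⟨a, ha⟩ := exists_ne (0 : E)
  have horb : MulAction.orbit D a = {x : E | x ≠ 0} := by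
    ext x
    constructor
    · rintro ⟨d, rfl⟩ h
      exact ha (smul_eq_zero_iff_eq d |>.mp h)
    · exact fun hx => htrans a x ha hx
  have h := MulAction.index_stabilizer D a
  rw [horb] at h
  have hc : Nat.card ↥{x : E | x ≠ 0} = Nat.card E - 1 := by
    haveI := Fintype.ofFinite E
    show Nat.card {x : E // ¬ x = 0} = _
    rw [Nat.card_eq_fintype_card, Nat.card_eq_fintype_card, Fintype.card_subtype_compl (fun x : E => x = 0),
      Fintype.card_subtype_eq]
  rw [← hc, Nat.card_coe_set_eq, ← h]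
  exact (MulAction.stabilizer D a).index_dvd_card

omit [Finite D] [Finite E] [FaithfulSMul D E] in
/-- The fixed vectors of an element. -/
def fixS (y : D) : AddSubgroup E where
  carrier := {x | y • x = x}
  add_mem' := fun {a b} ha hb => by rw [Set.mem_setOf_eq, smul_add, ha, hb]
  zero_mem' := smul_zero y
  neg_mem' := fun {a} ha => by rw [Set.mem_setOf_eq, smul_neg, ha]

omit [Finite D] [Finite E] [FaithfulSMul D E] in
theorem mem_fixS {y : D} {x : E} : x ∈ fixS y ↔ y • x = x := Iff.rfl

omit [Finite D] [Finite E] [FaithfulSMul D E] in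
/-- The image of `y - 1`. -/
def movS (y : D) : AddSubgroup E where
  carrier := Set.range fun x : E => y • x - x
  add_mem' := by rintro _ _ ⟨a, rfl⟩ ⟨b, rfl⟩; exact ⟨a + b, by simp only [smul_add]; abel⟩
  zero_mem' := ⟨0, by simp⟩
  neg_mem' := by rintro _ ⟨a, rfl⟩; exact ⟨-a, by simp only [smul_neg]; abel⟩

include hodd hE in
theorem fix_inf_mov (y : D) {x : E} (h1 : x ∈ fixS y) (h2 : x ∈ movS (E := E) y) : x = 0 := by
  obtain ⟨u, rfl⟩ := h2
  have h : ∀ k : ℕ, y ^ k • u = u + k • (y • u - u) := by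
    intro k
    induction k with
    | zero => simp
    | succ k ih =>
      rw [pow_succ', mul_smul, ih, smul_add, smul_comm y k, mem_fixS.mp h1, succ_nsmul]
      abel
  have h0 := h (orderOf y)
  rw [pow_orderOf_eq_one, one_smul, eq_comm, add_eq_left] at h0
  obtain ⟨j, hj⟩ := hodd.of_dvd_nat (orderOf_dvd_natCard y)
  rw [hj, succ_nsmul, mul_nsmul', ← mul_nsmul, mul_comm, mul_nsmul', hE, zero_add] at h0
  exact h0

omit [Finite D] [FaithfulSMul D E] in
/-- A subgroup of `r`-power order without non-zero fixed vectors in an invariant subgroup. -/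
theorem card_modEq {r : ℕ} [Fact r.Prime] (A : Subgroup D) [Finite A] (hA : IsPGroup r A) (U : AddSubgroup E)
    (hU : ∀ a ∈ A, ∀ u ∈ U, a • u ∈ U) (hfix : ∀ u ∈ U, (∀ a ∈ A, a • u = u) → u = 0) :
    Nat.card U ≡ 1 [MOD r] := by
  letI : MulAction A U :=
    { smul := fun a u => ⟨(a : D) • (u : E), hU a a.2 u u.2⟩
      one_smul := fun u => Subtype.ext (one_smul D (u : E))
      mul_smul := fun a b u => Subtype.ext (mul_smul (a : D) (b : D) (u : E)) }
  have h := hA.card_modEq_card_fixedPoints U
  have h1 : Nat.card (MulAction.fixedPoints A U) = 1 := by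
    rw [Nat.card_eq_one_iff_unique]
    refine ⟨⟨fun x y => Subtype.ext (Subtype.ext ?_)⟩, ⟨⟨0, fun a => Subtype.ext (smul_zero (a : D))⟩⟩⟩
    rw [hfix _ (x : U).2 fun a ha => congrArg Subtype.val (x.2 ⟨a, ha⟩),
      hfix _ (y : U).2 fun a ha => congrArg Subtype.val (y.2 ⟨a, ha⟩)]
  rwa [h1] at h

/-- The centralizer of an element irreducible on `E` is cyclic and fixed-point-free. -/
theorem centralizer_irreducible [Nontrivial E] (z : D)
    (hirr : ∀ U : AddSubgroup E, (∀ u ∈ U, z • u ∈ U) → U = ⊥ ∨ U = ⊤) :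
    IsCyclic ↥(Subgroup.centralizer ({z} : Set D)) ∧
      ∀ g ∈ Subgroup.centralizer ({z} : Set D), g ≠ 1 → ∀ a : E, g • a = a → a = 0 := by
  classical
  let act : D →* AddMonoid.End E := DistribMulAction.toAddMonoidEnd D E
  let S : Subring (AddMonoid.End E) := Subring.centralizer {act z}
  have hinj : ∀ f : S, f ≠ 0 → Function.Injective (f : AddMonoid.End E) := by
    intro f hf
    rcases hirr (AddMonoidHom.ker (f : AddMonoid.End E)) (fun u hu => by
      have h := DFunLike.congr_fun (Subring.mem_centralizer_iff.mp f.2 (act z) rfl) u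
      change (f : AddMonoid.End E) (z • u) = 0
      change z • (f : AddMonoid.End E) u = (f : AddMonoid.End E) (z • u) at h
      rw [← h, show (f : AddMonoid.End E) u = 0 from hu, smul_zero]) with h | h
    · exact (AddMonoidHom.ker_eq_bot_iff _).mp h
    · refine absurd (Subtype.ext (AddMonoidHom.ext fun u => ?_)) hf
      exact (h ▸ AddSubgroup.mem_top u : u ∈ AddMonoidHom.ker (f : AddMonoid.End E))
  haveI : Nontrivial S := ⟨⟨0, 1, fun h => by
    obtain ⟨a, ha⟩ := exists_ne (0 : E)
    exact ha (DFunLike.congr_fun (congrArg Subtype.val h) a).symm⟩⟩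
  haveI : NoZeroDivisors S := ⟨fun {f g} h => by
    by_cases hf : f = 0
    · exact Or.inl hf
    refine Or.inr (Subtype.ext (AddMonoidHom.ext fun u => hinj f hf ?_))
    exact (DFunLike.congr_fun (congrArg Subtype.val h) u).trans (map_zero _).symm⟩
  haveI : IsDomain S := NoZeroDivisors.to_isDomain S
  haveI : Finite (AddMonoid.End E) :=
    Finite.of_injective (fun f : AddMonoid.End E => (f : E → E)) DFunLike.coe_injective
  letI : Field S := (Finite.isDomain_to_isField S).toField
  have hmem : ∀ g ∈ Subgroup.centralizer ({z} : Set D), act g ∈ S := fun g hg =>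
    Subring.mem_centralizer_iff.mpr fun x hx => by
      rw [Set.mem_singleton_iff.mp hx, ← map_mul, ← map_mul,
        Subgroup.mem_centralizer_singleton_iff.mp hg]
  refine ⟨?_, fun g hg hg1 a ha => ?_⟩
  · let f : ↥(Subgroup.centralizer ({z} : Set D)) →* S :=
      { toFun := fun g => ⟨act g, hmem g g.2⟩
        map_one' := Subtype.ext (map_one act)
        map_mul' := fun a b => Subtype.ext (map_mul act (a : D) (b : D)) }
    refine isCyclic_of_subgroup_isDomain f fun a b h => Subtype.ext ?_
    exact eq_of_smul_eq_smul (α := E) fun e => DFunLike.congr_fun (congrArg Subtype.val h) e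
  · by_contra ha0
    have hne : (⟨act g, hmem g hg⟩ : S) - 1 ≠ 0 := fun h => hg1 (eq_of_smul_eq_smul (α := E) fun e => by
      have := DFunLike.congr_fun (congrArg Subtype.val (sub_eq_zero.mp h)) e
      rw [one_smul]
      exact this)
    refine ha0 (hinj _ hne ?_)
    show g • a - a = g • (0 : E) - 0
    rw [ha, sub_self, smul_zero, sub_zero]

include hodd hE htrans in
/-- The complex representations of small degree make the Sylow subgroup normal and abelian. -/
theorem sylow_normal [Nontrivial E] {n r : ℕ} [Fact r.Prime] (hn : Nat.card E = 2 ^ n) (hr : n + 1 ≤ r)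
    (hr' : Odd n → 2 * n + 1 ≤ r) (R : Sylow r D) :
    (R : Subgroup D).Normal ∧ ∀ a ∈ (R : Subgroup D), ∀ b ∈ (R : Subgroup D), a * b = b * a := by
  classical
  haveI := Fintype.ofFinite D
  let act : D →* AddMonoid.End E := DistribMulAction.toAddMonoidEnd D E
  let S : Subring (AddMonoid.End E) := Subring.centralizer (Set.range act)
  have hcomm : ∀ (f : S) (d : D) (x : E), (f : AddMonoid.End E) (d • x) = d • (f : AddMonoid.End E) x :=
    fun f d x => (DFunLike.congr_fun (Subring.mem_centralizer_iff.mp f.2 (act d) ⟨d, rfl⟩) x).symm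
  have hinj : ∀ f : S, f ≠ 0 → Function.Injective (f : AddMonoid.End E) := by
    intro f hf
    rcases invariant_cases htrans (AddMonoidHom.ker (f : AddMonoid.End E)) (fun d u hu => by
      change (f : AddMonoid.End E) (d • u) = 0
      rw [hcomm, show (f : AddMonoid.End E) u = 0 from hu, smul_zero]) with h | h
    · exact (AddMonoidHom.ker_eq_bot_iff _).mp h
    · refine absurd (Subtype.ext (AddMonoidHom.ext fun u => ?_)) hf
      exact (h ▸ AddSubgroup.mem_top u : u ∈ AddMonoidHom.ker (f : AddMonoid.End E))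
  haveI : Nontrivial S := ⟨⟨0, 1, fun h => by
    obtain ⟨a, ha⟩ := exists_ne (0 : E)
    exact ha (DFunLike.congr_fun (congrArg Subtype.val h) a).symm⟩⟩
  haveI : NoZeroDivisors S := ⟨fun {f g} h => by
    by_cases hf : f = 0
    · exact Or.inl hf
    refine Or.inr (Subtype.ext (AddMonoidHom.ext fun u => hinj f hf ?_))
    exact (DFunLike.congr_fun (congrArg Subtype.val h) u).trans (map_zero _).symm⟩
  haveI : IsDomain S := NoZeroDivisors.to_isDomain S
  haveI : Finite (AddMonoid.End E) :=
    Finite.of_injective (fun f : AddMonoid.End E => (f : E → E)) DFunLike.coe_injective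
  letI : Field S := (Finite.isDomain_to_isField S).toField
  letI : Module S E :=
    { smul := fun f x => (f : AddMonoid.End E) x
      one_smul := fun _ => rfl
      mul_smul := fun _ _ _ => rfl
      smul_zero := fun f => map_zero (f : AddMonoid.End E)
      smul_add := fun f => map_add (f : AddMonoid.End E)
      add_smul := fun _ _ _ => rfl
      zero_smul := fun _ => rfl }
  haveI : Module.Finite S E := Module.Finite.of_finite
  set m := Module.finrank S E with hmdef
  have hcard : Nat.card E = Nat.card S ^ m := Module.natCard_eq_pow_finrank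
  have h2 : (2 : S) = 0 := by
    rw [show (2 : S) = 1 + 1 from one_add_one_eq_two.symm]
    exact Subtype.ext (AddMonoidHom.ext fun x => (two_nsmul x).symm.trans (hE x))
  haveI : CharP S 2 := CharTwo.of_one_ne_zero_of_two_eq_zero one_ne_zero h2
  let b := Module.finBasis S E
  let L : D →* Module.End S E :=
    { toFun := fun d =>
        { toFun := fun x => d • x
          map_add' := smul_add d
          map_smul' := fun f x => (hcomm f d x).symm }
      map_one' := LinearMap.ext fun x => one_smul D x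
      map_mul' := fun c d => LinearMap.ext fun x => mul_smul c d x }
  let σ : D →* Matrix (Fin m) (Fin m) S := (LinearMap.toMatrixAlgEquiv b).toMonoidHom.comp L
  have hσ : Function.Injective σ := fun c d h => eq_of_smul_eq_smul (α := E) fun x =>
    LinearMap.congr_fun ((LinearMap.toMatrixAlgEquiv b).injective h) x
  obtain ⟨hsep, hspan⟩ := small_characters hodd σ hσ
  have hm : 2 * m + 1 ≤ r := by
    have hm0 : 0 < m := Module.finrank_pos
    have hS : 2 ≤ Nat.card S := Finite.one_lt_card
    rcases (show Nat.card S = 2 ∨ 4 ≤ Nat.card S by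
      obtain ⟨k, -, hk⟩ := (Nat.dvd_prime_pow Nat.prime_two).mp (hn ▸ hcard ▸ dvd_pow_self (Nat.card S) hm0.ne' :
        Nat.card S ∣ 2 ^ n)
      rcases k with _ | _ | k
      · omega
      · exact Or.inl (by rw [hk]; rfl)
      · right; rw [hk, pow_succ, pow_succ]; have := Nat.one_le_two_pow (n := k); omega) with h | h
    · have hmn : m = n := Nat.pow_right_injective le_rfl (show 2 ^ m = 2 ^ n by rw [← hn, hcard, h])
      refine hmn ▸ hr' (hmn ▸ hspan hm0 (span_eq_top σ ?_ ?_))
      · intro x y hx hy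
        obtain ⟨d, hd⟩ := htrans (b.equivFun.symm x) (b.equivFun.symm y)
          (fun h => hx (b.equivFun.symm.map_eq_zero_iff.mp h)) (fun h => hy (b.equivFun.symm.map_eq_zero_iff.mp h))
        refine ⟨d, ?_⟩
        have h3 := LinearMap.toMatrix_mulVec_repr b b (L d) (b.equivFun.symm x)
        rw [show (L d) (b.equivFun.symm x) = b.equivFun.symm y from hd] at h3
        simpa [σ, LinearMap.toMatrixAlgEquiv, Module.Basis.equivFun] using h3
      · intro f hf
        let F : E →ₗ[S] E := b.equivFun.symm.toLinearMap ∘ₗ f ∘ₗ b.equivFun.toLinearMap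
        have hFd : ∀ (d : D) (x : E), F (d • x) = d • F x := by
          intro d x
          have h3 : ∀ z : E, b.equivFun (d • z) = (σ d).mulVec (b.equivFun z) := fun z =>
            (LinearMap.toMatrix_mulVec_repr b b (L d) z).symm
          apply b.equivFun.injective
          simp only [F, LinearMap.comp_apply, LinearEquiv.coe_coe, LinearEquiv.apply_symm_apply, h3, hf]
        refine ⟨⟨F.toAddMonoidHom, Subring.mem_centralizer_iff.mpr ?_⟩, fun a => ?_⟩
        · rintro _ ⟨d, rfl⟩
          exact AddMonoidHom.ext fun x => (hFd d x).symm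
        · apply b.equivFun.symm.injective
          rw [map_smul]
          show b.equivFun.symm (f a) = F (b.equivFun.symm a)
          simp only [F, LinearMap.comp_apply, LinearEquiv.coe_coe, LinearEquiv.apply_symm_apply]
    · have : Nat.card S ^ m = 2 ^ n := hcard.symm.trans hn
      have h4 : 4 ^ m ≤ 2 ^ n := this ▸ Nat.pow_le_pow_left h m
      rw [show (4 : ℕ) = 2 ^ 2 from rfl, ← pow_mul] at h4
      have := (Nat.pow_le_pow_iff_right (le_refl 2)).mp h4
      omega
  have hr1 : 1 < r := (Fact.out : r.Prime).one_lt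
  constructor
  · -- normality
    have key : ∀ c : D, ∀ x ∈ (R : Subgroup D) ⊔ (R : Subgroup D).map (MulAut.conj c).toMonoidHom,
        x ^ Nat.card R = 1 := by
      intro c x hx
      by_contra hne
      obtain ⟨k, hk, ρ, hρ⟩ := hsep _ hne
      let ρ' : D →* (Module.End ℂ (Fin k → ℂ))ˣ := ρ.toHomUnits
      set G' := D ⧸ ρ'.ker
      haveI := Fintype.ofFinite G'
      let τ : Representation ℂ G' (Fin k → ℂ) := (Units.coeHom _).comp (QuotientGroup.kerLift ρ')
      have hτ : Function.Injective τ := Units.val_injective.comp (QuotientGroup.kerLift_injective ρ')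
      have hodd' : Odd (Nat.card G') := hodd.of_dvd_nat (Subgroup.card_quotient_dvd_card _)
      let P : Sylow r G' := R.mapSurjective (QuotientGroup.mk'_surjective ρ'.ker)
      haveI hP := normal_sylow_odd (p := r) (by omega : 2 * k + 1 ≤ r) τ hτ hodd' P
      have hle : (R : Subgroup D) ⊔ (R : Subgroup D).map (MulAut.conj c).toMonoidHom ≤
          (P : Subgroup G').comap (QuotientGroup.mk' ρ'.ker) := by
        refine sup_le (fun y hy => ⟨y, hy, rfl⟩) ?_
        rintro _ ⟨y, hy, rfl⟩
        show QuotientGroup.mk' ρ'.ker (c * y * c⁻¹) ∈ (P : Subgroup G')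
        rw [map_mul, map_mul, map_inv]
        exact hP.conj_mem _ ⟨y, hy, rfl⟩ _
      have hxP : QuotientGroup.mk' ρ'.ker x ∈ (P : Subgroup G') := hle hx
      have hpow := pow_card_eq_one' (x := (⟨_, hxP⟩ : (P : Subgroup G')))
      have hcardP : Nat.card (P : Subgroup G') ∣ Nat.card R := Subgroup.card_map_dvd (R : Subgroup D) _
      have h1 : QuotientGroup.mk' ρ'.ker x ^ Nat.card R = 1 := by
        obtain ⟨e, he⟩ := hcardP
        rw [he, pow_mul]
        have := congrArg Subtype.val hpow
        simp only [SubmonoidClass.coe_pow, OneMemClass.coe_one] at this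
        rw [this, one_pow]
      rw [← map_pow, QuotientGroup.mk'_apply, QuotientGroup.eq_one_iff, MonoidHom.mem_ker] at h1
      exact hρ (congrArg Units.val h1)
    obtain ⟨N, hN⟩ := IsPGroup.iff_card.mp R.isPGroup'
    refine ⟨fun y hy c => ?_⟩
    have hle : (R : Subgroup D) ⊔ (R : Subgroup D).map (MulAut.conj c).toMonoidHom = (R : Subgroup D) :=
      R.is_maximal' (fun x => ⟨N, Subtype.ext (by
        rw [SubmonoidClass.coe_pow, ← hN]
        exact key c x x.2)⟩) le_sup_left
    rw [← hle]
    exact le_sup_right (a := (R : Subgroup D)) ⟨y, hy, rfl⟩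
  · -- commutativity
    intro a ha c hc
    by_contra hne
    obtain ⟨k, hk, ρ, hρ⟩ := hsep (a * c * (c * a)⁻¹) (fun h => hne (mul_inv_eq_one.mp h))
    let ρ' : D →* (Module.End ℂ (Fin k → ℂ))ˣ := ρ.toHomUnits
    haveI := Fintype.ofFinite (D ⧸ ρ'.ker)
    let τ : Representation ℂ (D ⧸ ρ'.ker) (Fin k → ℂ) := (Units.coeHom _).comp (QuotientGroup.kerLift ρ')
    have hτ : Function.Injective τ := Units.val_injective.comp (QuotientGroup.kerLift_injective ρ')
    obtain ⟨N, hN⟩ := IsPGroup.iff_card.mp R.isPGroup'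
    have h := Char.Blichfeldt.commute_of_primes τ (fun g hg => hτ (hg.trans (map_one τ).symm))
      ((R : Subgroup D).map (QuotientGroup.mk' ρ'.ker)) (fun q hq hqd => by
        have h1 := (hqd.trans (Subgroup.card_map_dvd (R : Subgroup D) _)).trans (dvd_of_eq hN)
        rw [(Nat.prime_dvd_prime_iff_eq hq Fact.out).mp (hq.dvd_of_dvd_pow h1)]
        omega) ⟨a, ha, rfl⟩ ⟨c, hc, rfl⟩
    rw [← map_mul, ← map_mul, ← mul_inv_eq_one, ← map_inv, ← map_mul, QuotientGroup.mk'_apply,
      QuotientGroup.eq_one_iff, MonoidHom.mem_ker] at h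
    exact hρ (congrArg Units.val h)

include hodd hE in
/-- A fixed-point-free statement at a prime `r`. -/
theorem mem_ne_one_orbit {z : D} {r : ℕ} [Fact r.Prime] (hzr : orderOf z = r)
    (U : AddSubgroup E) (hU : ∀ u ∈ U, z • u ∈ U) (hfix : ∀ u ∈ U, z • u = u → u = 0) :
    Nat.card U ≡ 1 [MOD r] := by
  refine card_modEq (Subgroup.zpowers z) (IsPGroup.of_card (n := 1) (by rw [Nat.card_zpowers, hzr, pow_one]))
    U ?_ fun u hu h => hfix u hu (h z (Subgroup.mem_zpowers z))
  intro a ha u hu
  obtain ⟨k, rfl⟩ := mem_powers_iff_mem_zpowers.mpr ha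
  induction k with
  | zero => simpa using hu
  | succ k ih =>
    show z ^ (k + 1) • u ∈ U
    rw [pow_succ', mul_smul]
    exact hU _ (ih ⟨k, by simp⟩)

include hodd hE htrans in
/-- A normal subgroup of prime order with cyclic fixed-point-free centralizer, given a prime for which the
invariant subgroups are small. -/
theorem exists_core [Nontrivial E] {n r : ℕ} [Fact r.Prime] (hn : Nat.card E = 2 ^ n)
    (hdvd : r ∣ 2 ^ n - 1) (hr : n + 1 ≤ r) (hr' : Odd n → 2 * n + 1 ≤ r)
    (hH : ∀ m, m ≤ n → r ∣ 2 ^ m - 1 → m = 0 ∨ m = n ∨ (2 * m = n ∧ r + 1 = 2 ^ m ∧ n = 6)) :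
    ∃ z : D, z ≠ 1 ∧ (orderOf z).Prime ∧ (Subgroup.zpowers z).Normal ∧
      IsCyclic ↥(Subgroup.centralizer ({z} : Set D)) ∧
      ∀ g ∈ Subgroup.centralizer ({z} : Set D), g ≠ 1 → ∀ a : E, g • a = a → a = 0 := by
  classical
  have hr2 : r ≠ 2 := fun h => by
    have hpos : 0 < n := Nat.pos_of_ne_zero fun h0 => by
      rw [h0, pow_zero] at hn
      exact absurd hn (Finite.one_lt_card (α := E)).ne'
    obtain ⟨k, rfl⟩ := Nat.exists_eq_succ_of_ne_zero hpos.ne'
    rw [h, pow_succ] at hdvd
    have := Nat.one_le_two_pow (n := k)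
    omega
  have hRdvd : r ∣ Nat.card D := by
    refine hdvd.trans ?_
    rw [← hn]
    exact card_sub_one_dvd htrans
  obtain ⟨R⟩ : Nonempty (Sylow r D) := inferInstance
  obtain ⟨hRn, hRab⟩ := sylow_normal hodd hE htrans hn hr hr' R
  haveI := hRn
  haveI : Unique (Sylow r D) := Sylow.unique_of_normal R hRn
  let A : Subgroup D :=
    { carrier := {x | x ∈ (R : Subgroup D) ∧ x ^ r = 1}
      one_mem' := ⟨one_mem _, one_pow r⟩
      mul_mem' := fun {a b} ha hb => ⟨mul_mem ha.1 hb.1, by
        rw [(show Commute a b from hRab a ha.1 b hb.1).mul_pow, ha.2, hb.2, one_mul]⟩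
      inv_mem' := fun {a} ha => ⟨inv_mem ha.1, by rw [inv_pow, ha.2, inv_one]⟩ }
  haveI hAn : A.Normal := ⟨fun x hx c => ⟨hRn.conj_mem x hx.1 c, by rw [conj_pow, hx.2, mul_one, mul_inv_cancel]⟩⟩
  have hAp : IsPGroup r A := fun x => ⟨1, Subtype.ext (by simpa using x.2.2)⟩
  have hinA : ∀ y : D, orderOf y = r → y ∈ A := by
    intro y hy
    refine ⟨?_, hy ▸ pow_orderOf_eq_one y⟩
    obtain ⟨Q, hQ⟩ := (IsPGroup.of_card (n := 1) (by rw [Nat.card_zpowers, hy, pow_one]) :
      IsPGroup r (Subgroup.zpowers y)).exists_le_sylow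
    rw [Subsingleton.elim R Q]
    exact hQ (Subgroup.mem_zpowers y)
  obtain ⟨a₀, ha₀⟩ := exists_prime_orderOf_dvd_card' r hRdvd
  -- the invariant subgroups
  have hpow : ∀ U : AddSubgroup E, ∃ m ≤ n, Nat.card U = 2 ^ m := fun U => by
    obtain ⟨m, hm, hm'⟩ := (Nat.dvd_prime_pow Nat.prime_two).mp (hn ▸ U.card_addSubgroup_dvd_card)
    exact ⟨m, hm, hm'⟩
  have hsize : ∀ U : AddSubgroup E, Nat.card U ≡ 1 [MOD r] →
      U = ⊥ ∨ U = ⊤ ∨ (n = 6 ∧ Nat.card U = r + 1 ∧ Nat.card U * Nat.card U = Nat.card E) := by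
    intro U hU
    obtain ⟨m, hm, hm'⟩ := hpow U
    rw [hm'] at hU
    rcases hH m hm ((Nat.modEq_iff_dvd' Nat.one_le_two_pow).mp hU.symm) with h | h | ⟨h1, h2, h3⟩
    · exact Or.inl (AddSubgroup.eq_bot_of_card_eq _ (by rw [hm', h, pow_zero]))
    · exact Or.inr (Or.inl (AddSubgroup.eq_top_of_card_eq _ (by rw [hm', h, hn])))
    · exact Or.inr (Or.inr ⟨h3, by rw [hm', h2], by rw [hm', hn, ← pow_add, ← two_mul, h1]⟩)
  -- no element of `A` has a non-zero fixed vector
  have hAfix : ∀ u : E, (∀ a ∈ A, a • u = u) → u = 0 := by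
    let U : AddSubgroup E :=
      { carrier := {x | ∀ a ∈ A, a • x = x}
        add_mem' := fun {x y} hx hy a ha => by rw [smul_add, hx a ha, hy a ha]
        zero_mem' := fun a _ => smul_zero a
        neg_mem' := fun {x} hx a ha => by rw [smul_neg, hx a ha] }
    rcases invariant_cases htrans U (fun d u hu a ha => by
      have h := hu (d⁻¹ * a * d⁻¹⁻¹) (hAn.conj_mem a ha d⁻¹)
      rw [inv_inv, mul_smul, mul_smul, inv_smul_eq_iff] at h
      exact h) with h | h
    · exact fun u hu => (AddSubgroup.mem_bot).mp (h ▸ hu : u ∈ (⊥ : AddSubgroup E))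
    · exfalso
      have h1 : a₀ = 1 := eq_of_smul_eq_smul (α := E) fun e => by
        rw [one_smul]
        exact (h ▸ AddSubgroup.mem_top e : e ∈ U) a₀ (hinA a₀ ha₀)
      rw [h1, orderOf_one] at ha₀
      exact (Fact.out : r.Prime).ne_one ha₀.symm
  have hAinv : ∀ U : AddSubgroup E, (∀ a ∈ A, ∀ u ∈ U, a • u ∈ U) → Nat.card U ≡ 1 [MOD r] := fun U hU =>
    card_modEq A hAp U hU fun u _ h => hAfix u h
  have hAfpf : ∀ a ∈ A, a ≠ 1 → ∀ u : E, a • u = u → u = 0 := by
    intro a ha ha1 u hu
    by_contra hu0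
    set W := fixS (E := E) a
    set W' := movS (E := E) a
    have hacomm : ∀ b ∈ A, Commute b a := fun b hb => hRab b hb.1 a ha.1
    have hWA : ∀ b ∈ A, ∀ w ∈ W, b • w ∈ W := fun b hb w hw => by
      rw [mem_fixS, ← mul_smul, ← (hacomm b hb).eq, mul_smul, mem_fixS.mp hw]
    have hW'A : ∀ b ∈ A, ∀ w ∈ W', b • w ∈ W' := by
      rintro b hb _ ⟨x, rfl⟩
      exact ⟨b • x, by simp only [smul_sub, ← mul_smul, (hacomm b hb).eq]⟩
    have hW : n = 6 ∧ Nat.card W = r + 1 ∧ Nat.card W * Nat.card W = Nat.card E := by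
      rcases hsize W (hAinv W hWA) with h | h | h
      · exact absurd ((AddSubgroup.eq_bot_iff_forall _).mp h u hu) hu0
      · exact absurd (eq_of_smul_eq_smul (α := E) fun e => by
          rw [one_smul]; exact mem_fixS.mp (h ▸ AddSubgroup.mem_top e : e ∈ W)) ha1
      · exact h
    have hW' : Nat.card W' = r + 1 := by
      rcases hsize W' (hAinv W' hW'A) with h | h | h
      · refine absurd (eq_of_smul_eq_smul (α := E) fun e => ?_) ha1
        rw [one_smul]
        exact sub_eq_zero.mp ((AddSubgroup.eq_bot_iff_forall _).mp h _ ⟨e, rfl⟩)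
      · exfalso
        exact hu0 (fix_inf_mov hodd hE a hu (show u ∈ W' by rw [h]; exact AddSubgroup.mem_top u))
      · exact h.2.1
    have hdisj : ∀ x, x ∈ W → x ∈ W' → x = 0 := fun x h1 h2 => fix_inf_mov hodd hE a h1 h2
    have hsurj : ∀ x : E, ∃ w ∈ W, ∃ w' ∈ W', w + w' = x := by
      intro x
      let f : W × W' → E := fun p => (p.1 : E) + p.2
      have hf : Function.Injective f := by
        rintro ⟨p, q⟩ ⟨p', q'⟩ h
        have h1 : (p : E) - p' = (q' : E) - q := by simp only [f] at h; rw [sub_eq_sub_iff_add_eq_add, h, add_comm]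
        have h2 := hdisj _ (W.sub_mem p.2 p'.2) (h1 ▸ W'.sub_mem q'.2 q.2)
        have h3 : (q' : E) - q = 0 := h1.symm.trans h2
        exact Prod.ext (Subtype.ext (sub_eq_zero.mp h2)) (Subtype.ext (sub_eq_zero.mp h3).symm)
      obtain ⟨⟨p, q⟩, hpq⟩ := (hf.bijective_of_nat_card_le (by
        rw [Nat.card_prod, hW', ← hW.2.2, hW.2.1])).2 x
      exact ⟨p, p.2, q, q.2, hpq⟩
    let T : D → AddSubgroup E := fun g => W.map (DistribSMul.toAddMonoidHom E g)
    have hTcard : ∀ g, Nat.card (T g) = r + 1 := fun g =>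
      (Nat.card_congr (AddSubgroup.equivMapOfInjective W _ (MulAction.injective g)).toEquiv).symm.trans hW.2.1
    have hT : ∀ g, T g = W ∨ T g = W' := by
      intro g
      have hgA : ∀ b ∈ A, ∀ x ∈ T g, b • x ∈ T g := by
        rintro b hb _ ⟨w, hw, rfl⟩
        refine ⟨(g⁻¹ * b * g⁻¹⁻¹) • w, hWA _ (hAn.conj_mem b hb g⁻¹) w hw, ?_⟩
        show g • _ = b • g • w
        rw [inv_inv, ← mul_smul, ← mul_smul]; congr 1; group
      by_cases hint : ∀ x, x ∈ T g → x ∈ W' → x = 0
      · left
        refine SetLike.ext' (Set.eq_of_subset_of_ncard_le (fun x hx => ?_) ?_ (Set.toFinite _))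
        · obtain ⟨w, hw, w', hw', rfl⟩ := hsurj x
          have h1 : a • w' - w' ∈ T g := by
            have := (T g).sub_mem (hgA a ha _ hx) hx
            rwa [smul_add, mem_fixS.mp hw, add_sub_add_left_eq_sub] at this
          have h2 : w' = 0 := hdisj w' (sub_eq_zero.mp (hint _ h1 (W'.sub_mem (hW'A a ha _ hw') hw'))) hw'
          rw [h2, add_zero]; exact hw
        · rw [← Nat.card_coe_set_eq, ← Nat.card_coe_set_eq]
          exact le_of_eq (hW.2.1.trans (hTcard g).symm)
      · right
        push Not at hint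
        obtain ⟨x, hx1, hx2, hx0⟩ := hint
        rcases hsize (T g ⊓ W') (hAinv _ fun b hb y hy => ⟨hgA b hb y hy.1, hW'A b hb y hy.2⟩) with h | h | h
        · exact absurd ((AddSubgroup.eq_bot_iff_forall _).mp h x ⟨hx1, hx2⟩) hx0
        · have h5 : W' = ⊤ := eq_top_iff.mpr (h ▸ inf_le_right)
          exact absurd (hdisj u hu (h5 ▸ AddSubgroup.mem_top u)) hu0
        · have e1 : T g ⊓ W' = T g := SetLike.ext' (Set.eq_of_subset_of_ncard_le (show ((T g ⊓ W' : AddSubgroup E) : Set E) ⊆ T g from fun y hy => hy.1) (by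
            rw [← Nat.card_coe_set_eq, ← Nat.card_coe_set_eq]
            exact le_of_eq ((hTcard g).trans h.2.1.symm)) (Set.toFinite _))
          have e2 : T g ⊓ W' = W' := SetLike.ext' (Set.eq_of_subset_of_ncard_le (show ((T g ⊓ W' : AddSubgroup E) : Set E) ⊆ W' from fun y hy => hy.2) (by
            rw [← Nat.card_coe_set_eq, ← Nat.card_coe_set_eq]
            exact le_of_eq (hW'.trans h.2.1.symm)) (Set.toFinite _))
          exact e1.symm.trans e2
    -- an odd group fixes both
    letI : MulAction D (AddSubgroup E) :=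
      { smul := fun g U => U.map (DistribSMul.toAddMonoidHom E g)
        one_smul := fun U => by
          show U.map _ = U
          rw [show DistribSMul.toAddMonoidHom E (1 : D) = AddMonoidHom.id E from
            AddMonoidHom.ext fun x => one_smul D x, AddSubgroup.map_id]
        mul_smul := fun g h U => by
          show U.map _ = (U.map _).map _
          rw [AddSubgroup.map_map]
          congr 1
          exact AddMonoidHom.ext fun x => mul_smul g h x }
    have horb : Nat.card (MulAction.orbit D W) ≤ 2 := by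
      calc Nat.card (MulAction.orbit D W) ≤ Nat.card ({W, W'} : Set (AddSubgroup E)) :=
            Nat.card_mono (Set.toFinite _) (by rintro _ ⟨g, rfl⟩; exact hT g)
        _ ≤ 2 := by rw [Nat.card_coe_set_eq]; exact (Set.ncard_insert_le _ _).trans (by simp)
    have h1 : Nat.card (MulAction.orbit D W) = 1 := by
      have hd : Nat.card (MulAction.orbit D W) ∣ Nat.card D := by
        rw [Nat.card_coe_set_eq, ← MulAction.index_stabilizer]
        exact Subgroup.index_dvd_card _
      have hpos : 0 < Nat.card (MulAction.orbit D W) :=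
        Nat.card_pos_iff.mpr ⟨⟨⟨W, MulAction.mem_orbit_self W⟩⟩, inferInstance⟩
      have := hodd.of_dvd_nat hd
      rcases Nat.le_one_iff_eq_zero_or_eq_one.mp (show Nat.card (MulAction.orbit D W) ≤ 1 by
        by_contra h; rw [show Nat.card (MulAction.orbit D W) = 2 by omega] at this; revert this; decide) with h | h
      · omega
      · exact h
    have hinv : ∀ (d : D), ∀ w ∈ W, d • w ∈ W := by
      intro d w hw
      obtain ⟨hs, -⟩ := Nat.card_eq_one_iff_unique.mp h1
      have e := congrArg Subtype.val (hs.elim ⟨T d, d, rfl⟩ ⟨W, MulAction.mem_orbit_self W⟩)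
      have : d • w ∈ T d := ⟨w, hw, rfl⟩
      rw [show T d = W from e] at this
      exact this
    rcases invariant_cases htrans W hinv with h | h
    · exact hu0 ((AddSubgroup.eq_bot_iff_forall _).mp h u hu)
    · exact ha1 (eq_of_smul_eq_smul (α := E) fun e => by
        rw [one_smul]; exact mem_fixS.mp (h ▸ AddSubgroup.mem_top e : e ∈ W))
  -- `A` is cyclic
  letI : Module (ZMod 2) E := AddCommGroup.zmodModule hE
  let ρ : D →* Module.End (ZMod 2) E :=
    { toFun := fun d => (DistribSMul.toAddMonoidHom E d).toZModLinearMap 2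
      map_one' := LinearMap.ext fun x => one_smul D x
      map_mul' := fun c d => LinearMap.ext fun x => mul_smul c d x }
  have hρA : Perm.Fpf.IsFpf (ρ.comp A.subtype) := fun a ha x hx =>
    hAfpf a a.2 (fun h => ha (Subtype.ext h)) x hx
  haveI : IsCyclic A := by
    haveI := hρA.isCyclic_of_odd hr2 (⊤ : Subgroup A) (hAp.of_equiv Subgroup.topEquiv.symm)
    exact isCyclic_of_surjective (Subgroup.topEquiv (G := A)).toMonoidHom Subgroup.topEquiv.surjective
  have hzA : Subgroup.zpowers a₀ = A := by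
    refine Subgroup.eq_of_le_of_card_ge (Subgroup.zpowers_le.mpr (hinA a₀ ha₀)) ?_
    rw [Nat.card_zpowers, ha₀, ← IsCyclic.exponent_eq_card (α := A)]
    refine Nat.le_of_dvd (Fact.out : r.Prime).pos (Monoid.exponent_dvd_of_forall_pow_eq_one fun x => ?_)
    exact Subtype.ext x.2.2
  have ha₀1 : a₀ ≠ 1 := fun h => (Fact.out : r.Prime).ne_one (by rw [← ha₀, h, orderOf_one])
  refine ⟨a₀, ha₀1, ha₀ ▸ Fact.out, hzA ▸ hAn, ?_⟩
  by_cases h6 : ∀ m, m ≤ n → r ∣ 2 ^ m - 1 → m = 0 ∨ m = n
  · refine centralizer_irreducible a₀ fun U hU => ?_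
    have h := mem_ne_one_orbit hodd hE ha₀ U hU fun u _ => hAfpf a₀ (hinA a₀ ha₀) ha₀1 u
    obtain ⟨m, hm, hm'⟩ := hpow U
    rw [hm'] at h
    rcases h6 m hm ((Nat.modEq_iff_dvd' Nat.one_le_two_pow).mp h.symm) with e | e
    · exact Or.inl (AddSubgroup.eq_bot_of_card_eq _ (by rw [hm', e, pow_zero]))
    · exact Or.inr (AddSubgroup.eq_top_of_card_eq _ (by rw [hm', e, hn]))
  -- the case `n = 6`
  push Not at h6
  obtain ⟨m, hm, hmd, hm0, hmn⟩ := h6
  obtain ⟨h2m, hrm, hn6⟩ := ((hH m hm hmd).resolve_left hm0).resolve_left hmn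
  have hr7 : r = 7 := by
    rw [show m = 3 by omega] at hrm; omega
  set C := Subgroup.centralizer ({a₀} : Set D) with hC
  have hprime : ∀ y ∈ C, ∀ p : ℕ, p.Prime → orderOf y = p → ∀ u : E, y • u = u → u = 0 := by
    intro y hy p hp hyp u hu
    have hy1 : y ≠ 1 := fun h => hp.ne_one (by rw [← hyp, h, orderOf_one])
    by_cases hpr : p = r
    · exact hAfpf y (hinA y (hyp.trans hpr)) hy1 u hu
    by_contra hu0
    have hc : Commute a₀ y := (Subgroup.mem_centralizer_singleton_iff.mp hy).symm
    have hz : ∀ U : AddSubgroup E, (∀ w ∈ U, a₀ • w ∈ U) → Nat.card U ≡ 1 [MOD r] := fun U hU =>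
      mem_ne_one_orbit hodd hE ha₀ U hU fun w _ => hAfpf a₀ (hinA a₀ ha₀) ha₀1 w
    have hW' : Nat.card (movS (E := E) y) = r + 1 := by
      rcases hsize _ (hz (movS (E := E) y) (by
        rintro _ ⟨x, rfl⟩
        exact ⟨a₀ • x, by simp only [smul_sub, ← mul_smul, hc.eq]⟩)) with h | h | h
      · refine absurd (eq_of_smul_eq_smul (α := E) fun e => ?_) hy1
        rw [one_smul]
        exact sub_eq_zero.mp ((AddSubgroup.eq_bot_iff_forall _).mp h _ ⟨e, rfl⟩)
      · exact absurd (fix_inf_mov hodd hE y hu (h ▸ AddSubgroup.mem_top u)) hu0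
      · exact h.2.1
    haveI : Nontrivial (movS (E := E) y) := Finite.one_lt_card_iff_nontrivial.mp (by omega)
    obtain ⟨⟨w, hw⟩, hw0⟩ := exists_ne (0 : movS (E := E) y)
    have hw0' : w ≠ 0 := fun h => hw0 (Subtype.ext h)
    have hzinv : ∀ x ∈ movS (E := E) y, ∀ k : ℕ, a₀ ^ k • x ∈ movS (E := E) y := by
      rintro _ ⟨x, rfl⟩ k
      exact ⟨a₀ ^ k • x, by simp only [smul_sub, ← mul_smul, (hc.pow_left k).eq]⟩
    -- the powers of `a₀` reach every non-zero vector of the image
    have hcover : ∀ x ∈ movS (E := E) y, x ≠ 0 → ∃ k : Fin r, a₀ ^ (k : ℕ) • w = x := by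
      intro x hx hx0
      let f : Fin r → {v : movS (E := E) y // v ≠ 0} := fun k => ⟨⟨a₀ ^ (k : ℕ) • w, hzinv w hw k⟩, fun h => hw0' ((smul_eq_zero_iff_eq _).mp (congrArg Subtype.val h))⟩
      have hf : Function.Injective f := by
        intro i j h
        have e : a₀ ^ (i : ℕ) • w = a₀ ^ (j : ℕ) • w := congrArg (fun v => ((v.1 : movS (E := E) y) : E)) h
        have hij : a₀ ^ (i : ℕ) = a₀ ^ (j : ℕ) := by
          by_contra hne
          refine hw0' (hAfpf ((a₀ ^ (j : ℕ))⁻¹ * a₀ ^ (i : ℕ)) ?_ (fun h1 => hne (inv_mul_eq_one.mp h1).symm) w ?_)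
          · rw [← hzA]
            exact mul_mem (inv_mem (Subgroup.npow_mem_zpowers _ _)) (Subgroup.npow_mem_zpowers _ _)
          · rw [mul_smul, e, inv_smul_smul]
        exact Fin.ext (pow_injOn_Iio_orderOf (by rw [Set.mem_Iio, ha₀]; exact i.2)
          (by rw [Set.mem_Iio, ha₀]; exact j.2) hij)
      obtain ⟨k, hk⟩ := (hf.bijective_of_nat_card_le (by
        haveI := Fintype.ofFinite (movS (E := E) y)
        rw [Nat.card_eq_fintype_card, Nat.card_eq_fintype_card, Fintype.card_subtype_compl (fun v => v = 0),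
          Fintype.card_subtype_eq, Fintype.card_fin, ← Nat.card_eq_fintype_card, hW']
        omega)).2 ⟨⟨x, hx⟩, fun h => hx0 (congrArg Subtype.val h)⟩
      exact ⟨k, congrArg (fun v => ((v.1 : movS (E := E) y) : E)) hk⟩
    have hyw : y • w ∈ movS (E := E) y := by
      obtain ⟨x, rfl⟩ := hw
      exact ⟨y • x, by simp only [smul_sub]⟩
    obtain ⟨k, hk⟩ := hcover _ hyw (fun h => hw0' (smul_eq_zero_iff_eq y |>.mp h))
    have hiter : ∀ j : ℕ, y ^ j • w = a₀ ^ (j * k) • w := by
      intro j
      induction j with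
      | zero => simp
      | succ j ih =>
        rw [pow_succ', mul_smul, ih, ← mul_smul, ← (hc.pow_left (j * k)).eq, mul_smul, ← hk, ← mul_smul,
          ← pow_add, Nat.succ_mul]
    have h1 := hiter p
    rw [← hyp, pow_orderOf_eq_one, one_smul, hyp] at h1
    have h2 : a₀ ^ (p * k) = 1 := by
      by_contra hne
      exact hw0' (hAfpf _ (hzA ▸ Subgroup.npow_mem_zpowers _ _) hne w h1.symm)
    have h3 : r ∣ p * k := dvd_trans (dvd_of_eq ha₀.symm) (orderOf_dvd_of_pow_eq_one h2)
    rcases (Fact.out : r.Prime).dvd_mul.mp h3 with h | h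
    · exact hpr ((Nat.prime_dvd_prime_iff_eq Fact.out hp).mp h).symm
    · have hk0 : (k : ℕ) = 0 := Nat.eq_zero_of_dvd_of_lt h k.2
      rw [hk0, pow_zero, one_smul] at hk
      exact hw0' (fix_inf_mov hodd hE y (mem_fixS.mpr hk.symm) hw)
  have hCfpf : ∀ g ∈ C, g ≠ 1 → ∀ u : E, g • u = u → u = 0 := by
    intro g hg hg1 u hu
    obtain ⟨p, hp, hpd⟩ := Nat.exists_prime_and_dvd (n := orderOf g) fun h => hg1 (orderOf_eq_one_iff.mp h)
    have hy : orderOf (g ^ (orderOf g / p)) = p := orderOf_pow_orderOf_div (orderOf_pos g).ne' hpd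
    refine hprime _ (pow_mem hg _) p hp hy u ?_
    exact smul_pow_fixed hu _
  refine ⟨?_, hCfpf⟩
  have hρC : Perm.Fpf.IsFpf (ρ.comp C.subtype) := fun g hg x hx =>
    hCfpf g g.2 (fun h => hg (Subtype.ext h)) x hx
  have hCodd : ¬ 2 ∣ Nat.card C := fun h =>
    (Nat.not_even_iff_odd.mpr hodd) (even_iff_two_dvd.mpr (h.trans C.card_subgroup_dvd_card))
  -- `C` is semiregular
  have hsemi : Nat.card C ∣ 63 := by
    have hfree : ∀ v : {x : E // x ≠ 0}, MulAction.stabilizer C (v : E) = ⊥ := fun v =>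
      (Subgroup.eq_bot_iff_forall _).mpr fun g hg => by
        by_contra hne
        exact v.2 (hCfpf g g.2 (fun h => hne (Subtype.ext h)) v hg)
    have h63 : Nat.card {x : E // x ≠ 0} = 63 := by
      haveI := Fintype.ofFinite E
      rw [Nat.card_eq_fintype_card, Fintype.card_subtype_compl (fun x : E => x = 0), Fintype.card_subtype_eq,
        ← Nat.card_eq_fintype_card, hn, hn6]
      rfl
    rw [← h63]
    letI : MulAction C {x : E // x ≠ 0} :=
      { smul := fun g v => ⟨(g : D) • (v : E), fun h => v.2 ((smul_eq_zero_iff_eq _).mp h)⟩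
        one_smul := fun v => Subtype.ext (one_smul D (v : E))
        mul_smul := fun g h v => Subtype.ext (mul_smul (g : D) (h : D) (v : E)) }
    have e := MulAction.selfEquivOrbitsQuotientProd (G := C) (X := {x : E // x ≠ 0}) fun v => by
      rw [eq_bot_iff, ← hfree v]
      exact fun g hg => congrArg Subtype.val hg
    rw [Nat.card_congr e, Nat.card_prod]
    exact dvd_mul_left _ _
  haveI hZ : IsZGroup C := by
    have hz' := hρC.isZGroup_of_odd (H := (⊤ : Subgroup C))
      (fun h => hCodd (h.trans (Subgroup.card_subgroup_dvd_card _)))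
    rw [isZGroup_iff] at hz' ⊢
    intro p hp P
    haveI := Fact.mk hp
    haveI : IsCyclic ↥((P : Subgroup C).map (Subgroup.topEquiv (G := C)).symm.toMonoidHom) :=
      hz' p hp (P.mapSurjective (f := (Subgroup.topEquiv (G := C)).symm.toMonoidHom)
        (Subgroup.topEquiv (G := C)).symm.surjective)
    exact isCyclic_of_injective ((Subgroup.equivMapOfInjective (P : Subgroup C) (Subgroup.topEquiv (G := C)).symm.toMonoidHom
      (Subgroup.topEquiv (G := C)).symm.injective).toMonoidHom) (MulEquiv.injective _)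
  -- `C` is abelian
  haveI : Fact (Nat.Prime 3) := ⟨Nat.prime_three⟩
  obtain ⟨P⟩ : Nonempty (Sylow 3 C) := inferInstance
  haveI : IsCyclic P := (isZGroup_iff C).mp hZ 3 Nat.prime_three P
  have hz0 : (⟨a₀, Subgroup.mem_centralizer_singleton_iff.mpr rfl⟩ : C) ∈ Subgroup.center C :=
    Subgroup.mem_center_iff.mpr fun g => Subtype.ext (Subgroup.mem_centralizer_singleton_iff.mp g.2)
  set z : C := ⟨a₀, Subgroup.mem_centralizer_singleton_iff.mpr rfl⟩
  have hz : orderOf z = 7 := by rw [← Subgroup.orderOf_coe, ha₀, hr7]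
  have htop : Subgroup.zpowers z ⊔ (P : Subgroup C) = ⊤ := by
    apply Subgroup.eq_top_of_card_eq
    have h7 : 7 ∣ Nat.card (Subgroup.zpowers z ⊔ (P : Subgroup C) : Subgroup C) := by
      have h := Subgroup.card_dvd_of_le (le_sup_left : Subgroup.zpowers z ≤ Subgroup.zpowers z ⊔ (P : Subgroup C))
      rwa [Nat.card_zpowers, hz] at h
    have h3 : Nat.card P ∣ Nat.card (Subgroup.zpowers z ⊔ (P : Subgroup C) : Subgroup C) :=
      Subgroup.card_dvd_of_le le_sup_right
    have hle := Subgroup.card_subgroup_dvd_card (Subgroup.zpowers z ⊔ (P : Subgroup C))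
    have hmul : 7 * Nat.card P ∣ Nat.card (Subgroup.zpowers z ⊔ (P : Subgroup C) : Subgroup C) := by
      refine Nat.Coprime.mul_dvd_of_dvd_of_dvd ?_ h7 h3
      obtain ⟨k, hk⟩ := IsPGroup.iff_card.mp P.isPGroup'
      rw [hk]
      exact Nat.Coprime.pow_right _ (by decide)
    refine Nat.dvd_antisymm hle ((dvd_trans ?_ hmul))
    obtain ⟨c, hc⟩ := hsemi
    have hd : Nat.card C ∈ Nat.divisors 63 := Nat.mem_divisors.mpr ⟨⟨c, hc⟩, by norm_num⟩
    have hd7 : 7 ∣ Nat.card C := hz ▸ orderOf_dvd_natCard z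
    rw [P.card_eq_multiplicity]
    have : Nat.card C = 7 ∨ Nat.card C = 21 ∨ Nat.card C = 63 := by
      rw [show Nat.divisors 63 = {1, 3, 7, 9, 21, 63} from by decide] at hd
      simp only [Finset.mem_insert, Finset.mem_singleton] at hd
      omega
    rcases this with h | h | h <;> rw [h]
    · exact dvd_mul_right 7 _
    · rw [show (21 : ℕ) = 7 * 3 ^ 1 from rfl, Nat.factorization_mul (by norm_num) (by norm_num),
        Finsupp.add_apply, Nat.factorization_eq_zero_of_not_dvd (show ¬ 3 ∣ 7 by decide), zero_add,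
        Nat.prime_three.factorization_pow, Finsupp.single_eq_same]
    · rw [show (63 : ℕ) = 7 * 3 ^ 2 from rfl, Nat.factorization_mul (by norm_num) (by norm_num),
        Finsupp.add_apply, Nat.factorization_eq_zero_of_not_dvd (show ¬ 3 ∣ 7 by decide), zero_add,
        Nat.prime_three.factorization_pow, Finsupp.single_eq_same]
  haveI : IsMulCommutative C := by
    refine ⟨⟨fun x y => ?_⟩⟩
    have hPc : ∀ u ∈ (P : Subgroup C), Subgroup.zpowers z ⊔ (P : Subgroup C) ≤ Subgroup.centralizer {u} := by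
      intro u hu
      refine sup_le (Subgroup.zpowers_le.mpr (Subgroup.mem_centralizer_singleton_iff.mpr
        (Subgroup.mem_center_iff.mp hz0 u).symm)) fun w hw => Subgroup.mem_centralizer_singleton_iff.mpr ?_
      exact congrArg Subtype.val ((IsCyclic.isMulCommutative (α := P)).is_comm.comm ⟨w, hw⟩ ⟨u, hu⟩)
    have hall : Subgroup.zpowers z ⊔ (P : Subgroup C) ≤ Subgroup.center C := by
      refine sup_le (Subgroup.zpowers_le.mpr hz0) fun u hu => Subgroup.mem_center_iff.mpr fun g => ?_
      exact Subgroup.mem_centralizer_singleton_iff.mp (hPc u hu (htop ▸ Subgroup.mem_top g))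
    exact (Subgroup.mem_center_iff.mp (hall (htop ▸ Subgroup.mem_top x)) y).symm
  letI : CommGroup C := { (inferInstance : Group C) with mul_comm := mul_comm' }
  haveI : Group.IsNilpotent C := CommGroup.isNilpotent
  infer_instance


include hodd hE htrans in
/-- The Fitting subgroup of a group of odd order transitive on the non-zero vectors is cyclic and
fixed-point-free, self-centralizing, and has cyclic quotient. -/
theorem structure_theorem [Nontrivial E] :
    ∃ C : Subgroup D, C.Normal ∧ IsCyclic C ∧ C = Cfsg.fittingSubgroup D ∧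
      (∀ g ∈ C, g ≠ 1 → ∀ a : E, g • a = a → a = 0) ∧ Subgroup.centralizer (C : Set D) ≤ C ∧
      ∃ v : D, C ⊔ Subgroup.zpowers v = ⊤ ∧ commutator D ≤ C := by
  classical
  letI : Module (ZMod 2) E := AddCommGroup.zmodModule hE
  set n := Module.finrank (ZMod 2) E
  have hn : Nat.card E = 2 ^ n := by
    rw [Module.natCard_eq_pow_finrank (K := ZMod 2), Nat.card_zmod]
  have hn0 : 0 < n := Module.finrank_pos
  rcases (show n = 1 ∨ 2 ≤ n by omega) with h1 | h2n
  · -- one non-zero vector
    have htriv : ∀ d : D, d = 1 := fun d => eq_of_smul_eq_smul (α := E) fun x => by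
      rw [one_smul]
      by_cases hx : x = 0
      · rw [hx, smul_zero]
      by_contra hne
      have h3 : ({0, x, d • x} : Finset E).card = 3 := Finset.card_eq_three.mpr
        ⟨0, x, d • x, Ne.symm hx, fun h => hx ((smul_eq_zero_iff_eq d).mp h.symm), fun h => hne h.symm, rfl⟩
      haveI := Fintype.ofFinite E
      have := Finset.card_le_univ ({0, x, d • x} : Finset E)
      rw [h3, ← Nat.card_eq_fintype_card, hn, h1] at this
      omega
    haveI : Subsingleton D := ⟨fun a b => (htriv a).trans (htriv b).symm⟩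
    exact ⟨⊤, inferInstance, isCyclic_of_subsingleton, Subsingleton.elim _ _, fun g _ hg => absurd (htriv g) hg,
      le_top, 1, top_sup_eq _, le_top⟩
  obtain ⟨r, hr, hdvd, hle, hle', hH⟩ : ∃ r : ℕ, r.Prime ∧ r ∣ 2 ^ n - 1 ∧ n + 1 ≤ r ∧ (Odd n → 2 * n + 1 ≤ r) ∧
      ∀ m, m ≤ n → r ∣ 2 ^ m - 1 → m = 0 ∨ m = n ∨ (2 * m = n ∧ r + 1 = 2 ^ m ∧ n = 6) := by
    by_cases h6 : n = 6
    · refine ⟨7, by norm_num, by rw [h6]; norm_num, by omega, fun h => ?_, fun m hm hd => ?_⟩
      · rw [h6] at h; exact absurd h (by decide)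
      · rw [h6] at hm ⊢
        interval_cases m <;> first | omega | norm_num at hd
    obtain ⟨r, hr, hd, hmin⟩ := Cfsg.Agent.S2904.result 2 n (by omega) (by omega) (fun h => h6 h.2) (fun h => by
      obtain ⟨-, m, hm⟩ := h
      rcases m with _ | _ | m
      · norm_num at hm
      · norm_num at hm
      · rw [pow_succ, pow_succ] at hm; omega)
    haveI := Fact.mk hr
    have hcast : ∀ k : ℕ, ((2 : ℕ) : ZMod r) ^ k = 1 ↔ r ∣ 2 ^ k - 1 := fun k => by
      rw [← ZMod.natCast_eq_zero_iff, Nat.cast_sub Nat.one_le_two_pow, sub_eq_zero, Nat.cast_pow, Nat.cast_one]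
    have hord : orderOf ((2 : ℕ) : ZMod r) = n :=
      (orderOf_eq_iff hn0).mpr ⟨(hcast _).mpr hd, fun k h1 h2 h3 => hmin k h2 h1 ((hcast k).mp h3)⟩
    have hne : ((2 : ℕ) : ZMod r) ≠ 0 := fun h => by
      have := (hcast n).mpr hd
      rw [h, zero_pow hn0.ne'] at this
      exact zero_ne_one this
    have hdiv : n ∣ r - 1 := hord ▸ ZMod.orderOf_dvd_card_sub_one hne
    have hr2 : 2 ≤ r := hr.two_le
    have hrodd : r % 2 = 1 := hr.eq_two_or_odd.resolve_left fun h => hne (by rw [ZMod.natCast_eq_zero_iff, h])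
    refine ⟨r, hr, hd, ?_, fun hodd' => ?_, fun m hm hd' => ?_⟩
    · have := Nat.le_of_dvd (by omega) hdiv
      omega
    · have h2 : 2 * n ∣ r - 1 := Nat.Coprime.mul_dvd_of_dvd_of_dvd
        (Nat.coprime_two_left.mpr hodd') (by omega) hdiv
      have := Nat.le_of_dvd (by omega) h2
      omega
    · rcases Nat.eq_zero_or_pos m with h | h
      · exact Or.inl h
      · exact Or.inr (Or.inl (by by_contra hne'; exact hmin m h (by omega) hd'))
  haveI := Fact.mk hr
  obtain ⟨z, hz1, hzp, hzN, hcyc, hfpf⟩ := exists_core hodd hE htrans hn hdvd hle hle' hH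
  haveI := hzN
  set C := Subgroup.centralizer ({z} : Set D) with hC
  have hCz : C = Subgroup.centralizer ((Subgroup.zpowers z : Subgroup D) : Set D) := by
    rw [hC, Subgroup.zpowers_eq_closure, Subgroup.centralizer_closure]
  haveI hCn : C.Normal := hCz ▸ Subgroup.normal_centralizer
  haveI : Fact (orderOf z).Prime := ⟨hzp⟩
  have hzC : z ∈ C := Subgroup.mem_centralizer_singleton_iff.mpr rfl
  have hcent : Subgroup.centralizer (C : Set D) ≤ C := fun g hg =>
    Subgroup.mem_centralizer_singleton_iff.mpr (Subgroup.mem_centralizer_iff.mp hg z hzC).symm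
  -- the Fitting subgroup
  have hfit : C = Cfsg.fittingSubgroup D := by
    have hle1 : ∀ N : Subgroup D, N.Normal → Group.IsNilpotent N → N ≤ Cfsg.fittingSubgroup D :=
      fun N h1 h2 => le_sSup ⟨h1, h2⟩
    refine le_antisymm (hle1 C hCn (by
      haveI : IsMulCommutative C := IsCyclic.isMulCommutative
      letI : CommGroup C := { (inferInstance : Group C) with mul_comm := mul_comm' }
      exact CommGroup.isNilpotent)) fun f hf => ?_
    haveI hFn := Solv.fittingSubgroup_nilpotent (G := D)
    haveI := Solv.fittingSubgroup_normal (G := D)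
    have hzF : z ∈ Cfsg.fittingSubgroup D := by
      refine hle1 _ hzN ?_ (Subgroup.mem_zpowers z)
      exact (IsPGroup.of_card (n := 1) (by rw [Nat.card_zpowers, pow_one]) :
        IsPGroup (orderOf z) (Subgroup.zpowers z)).isNilpotent
    -- a normal subgroup of prime order of a nilpotent group is central
    obtain ⟨w, hwz, hw1, hwc⟩ := OddLocal.CNMin.meets_center (R := Subgroup.zpowers z) hFn
      (fun h => hz1 ((Subgroup.eq_bot_iff_forall _).mp h z ⟨Subgroup.mem_zpowers z, hzF⟩))
    obtain ⟨k, hk⟩ : z ∈ Subgroup.zpowers w := by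
      have hw' := mem_zpowers_of_prime_card (G := Subgroup.zpowers z) (p := orderOf z) (g := ⟨w, hwz.1⟩)
        (g' := ⟨z, Subgroup.mem_zpowers z⟩) (Nat.card_zpowers z) (fun h => hw1 (congrArg Subtype.val h))
      obtain ⟨k, hk⟩ := hw'
      exact ⟨k, congrArg Subtype.val hk⟩
    refine Subgroup.mem_centralizer_singleton_iff.mpr ?_
    rw [← show w ^ k = z from hk]
    exact (show Commute f w from hwc f hf).zpow_right k |>.eq
  -- the quotient
  let φ : D →* MulAut (Subgroup.zpowers z) := MulAut.conjNormal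
  have hker : φ.ker = C := by
    ext g
    rw [MonoidHom.mem_ker, Subgroup.mem_centralizer_singleton_iff]
    constructor
    · intro h
      have := congrArg (fun e : MulAut (Subgroup.zpowers z) => ((e ⟨z, Subgroup.mem_zpowers z⟩ : Subgroup.zpowers z) : D)) h
      simp only [φ, MulAut.conjNormal_apply, MulAut.one_apply] at this
      exact mul_inv_eq_iff_eq_mul.mp this
    · intro h
      refine MulEquiv.ext fun x => Subtype.ext ?_
      obtain ⟨x, k, rfl⟩ := x
      simp only [φ, MulAut.conjNormal_apply, MulAut.one_apply]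
      rw [((show Commute g z from h).zpow_right k).eq, mul_inv_cancel_right]
  haveI : IsCyclic (MulAut (Subgroup.zpowers z)) := by
    have e := IsCyclic.mulAutMulEquiv (Subgroup.zpowers z)
    rw [Nat.card_zpowers] at e
    exact isCyclic_of_surjective e.symm.toMonoidHom e.symm.surjective
  haveI : φ.ker.Normal := MonoidHom.normal_ker φ
  haveI hq : IsCyclic (D ⧸ φ.ker) := isCyclic_of_injective _ (QuotientGroup.kerLift_injective φ)
  obtain ⟨v', hv'⟩ := hq.exists_generator
  obtain ⟨v, rfl⟩ := QuotientGroup.mk_surjective v'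
  refine ⟨C, hCn, hcyc, hfit, hfpf, hcent, v, ?_, ?_⟩
  · refine eq_top_iff.mpr fun g _ => ?_
    obtain ⟨k, hk⟩ := hv' (QuotientGroup.mk g)
    have hk' : ((v ^ k : D) : D ⧸ φ.ker) = QuotientGroup.mk g := (QuotientGroup.mk_zpow _ _ _).trans hk
    rw [QuotientGroup.eq, hker] at hk'
    rw [show g = v ^ k * ((v ^ k)⁻¹ * g) by group]
    exact mul_mem (Subgroup.mem_sup_right ⟨k, rfl⟩) (Subgroup.mem_sup_left hk')
  · rw [← hker]
    refine Subgroup.Normal.quotient_commutative_iff_commutator_le.mp ?_
    exact IsCyclic.isMulCommutative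

end Cfsg.Agent.Lie.OddSmall
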